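import Mathlib.GroupTheory.SemidirectProduct
import Cfsg.Agent.Offender2.SThree
import Cfsg.Agent.ZJ.SymFourSection
import Cfsg.Agent.PLocal.Core
import Cfsg.Agent.PLocal.PConstrained

/-!
The bound `|A|² ≤ |V : C_V(A)|` for solvable groups without `S₄`-sections.
-/

set_option autoImplicit false
set_option linter.style.haveILetI false

namespace CfsgLib.PushUpTwo

open Subgroup

universe u v

/-- In a solvable group without nontrivial normal 2-subgroups the odd core contains its
centralizer. -/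
theorem centralizer_oddCore_le {R : Type u} [Group R] [Finite R] [Group.IsSolvable R]
    (hO : Cfsg.pCore 2 R = ⊥) :
    centralizer (Cfsg.pPrimeCore 2 R : Set R) ≤ Cfsg.pPrimeCore 2 R := by
  haveI : Fact (Nat.Prime 2) := ⟨Nat.prime_two⟩
  have hFle : Cfsg.fittingSubgroup R ≤ Cfsg.pPrimeCore 2 R := by
    refine CfsgLib.Solvable.le_pPrimeCore 2 inferInstance (Nat.coprime_two_right.2 ?_)
    rw [← Nat.not_even_iff_odd, even_iff_two_dvd]
    intro h2
    set F := Cfsg.fittingSubgroup R
    haveI : Group.IsNilpotent F := CfsgLib.Solvable.isNilpotent_fittingSubgroup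
    obtain ⟨P⟩ := (inferInstance : Nonempty (Sylow 2 F))
    haveI : (P : Subgroup F).Characteristic := Sylow.characteristic_of_normal P inferInstance
    haveI hn : ((P : Subgroup F).map F.subtype).Normal := ConjAct.normal_of_characteristic_of_normal
    have hle := CfsgLib.Solvable.le_pCore 2 hn (P.2.map _)
    rw [hO, le_bot_iff, map_eq_bot_iff_of_injective _ F.subtype_injective] at hle
    exact P.ne_bot_of_dvd_card h2 hle
  exact (centralizer_le hFle).trans
    (CfsgLib.Fitting.centralizer_fittingSubgroup_le_of_solvable.trans hFle)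

variable {R : Type u} {V : Type v} [Group R] [CommGroup V]

/-- The common fixed points of a set of operators. -/
def fixOf (ρ : R →* MulAut V) (A : Subgroup R) : Subgroup V where
  carrier := {v | ∀ a ∈ A, ρ a v = v}
  one_mem' := fun a _ => map_one (ρ a)
  mul_mem' := fun {x y} hx hy a ha => by rw [map_mul (ρ a), hx a ha, hy a ha]
  inv_mem' := fun {x} hx a ha => by rw [map_inv (ρ a), hx a ha]

theorem mem_fixOf {ρ : R →* MulAut V} {A : Subgroup R} {v : V} :
    v ∈ fixOf ρ A ↔ ∀ a ∈ A, ρ a v = v := Iff.rfl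

theorem sq_le_action [Finite R] [Finite V] [Group.IsSolvable R] (ρ : R →* MulAut V)
    (hρ : Function.Injective ρ) (hV : ∀ v : V, v ^ 2 = 1) (hO : Cfsg.pCore 2 R = ⊥)
    (h3 : ¬ CfsgLib.ZJ.Inverts 3 R) (A : Subgroup R) (hA : Cfsg.IsElementaryAbelian 2 A) :
    Nat.card A ^ 2 ≤ (fixOf ρ A).index := by
  haveI : Finite (V ⋊[ρ] R) := Finite.of_equiv _ SemidirectProduct.equivProd.symm
  set il : V →* V ⋊[ρ] R := SemidirectProduct.inl with hil
  set ir : R →* V ⋊[ρ] R := SemidirectProduct.inr with hir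
  haveI : IsMulCommutative il.range := ⟨⟨by
    rintro ⟨_, u, rfl⟩ ⟨_, w, rfl⟩
    exact Subtype.ext (by simp only [MulMemClass.coe_mul]; rw [← map_mul, ← map_mul, mul_comm])⟩⟩
  have hVsq : ∀ x ∈ il.range, x ^ 2 = 1 := by
    rintro _ ⟨u, rfl⟩; rw [← map_pow, hV, map_one]
  have hconj : ∀ (r : R) (u : V), ir r * il u * (ir r)⁻¹ = il (ρ r u) := fun r u => by
    rw [hil, hir, ← map_inv, SemidirectProduct.inl_aut]
  have hMV : ir.range ≤ normalizer (il.range : Set (V ⋊[ρ] R)) := by
    rintro _ ⟨r, rfl⟩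
    refine mem_normalizer_iff.2 fun x => ⟨?_, ?_⟩
    · rintro ⟨u, rfl⟩
      exact ⟨ρ r u, (hconj r u).symm⟩
    · rintro ⟨u, hu⟩
      refine ⟨ρ r⁻¹ u, ?_⟩
      rw [← hconj, hu, map_inv]
      group
  have hfaith : ir.range ⊓ centralizer (il.range : Set (V ⋊[ρ] R)) = ⊥ := by
    rw [eq_bot_iff]
    rintro _ ⟨⟨r, rfl⟩, hr⟩
    have hr1 : ρ r = 1 := MulEquiv.ext fun u => SemidirectProduct.inl_injective (φ := ρ) (by
      show il (ρ r u) = il u
      rw [← hconj, ← mem_centralizer_iff.1 hr (il u) ⟨u, rfl⟩, mul_inv_cancel_right])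
    rw [mem_bot, hρ (hr1.trans (map_one ρ).symm), map_one]
  have hno3 : ∀ a ∈ ir.range, ∀ x ∈ ir.range, orderOf x = 3 → a * x * a⁻¹ ≠ x⁻¹ := by
    rintro _ ⟨a, rfl⟩ _ ⟨x, rfl⟩ ho h
    rw [← map_inv, ← map_inv, ← map_mul, ← map_mul] at h
    rw [orderOf_injective ir SemidirectProduct.inr_injective] at ho
    refine h3 ⟨a, x, fun e => ?_, ⟨1, ?_⟩, SemidirectProduct.inr_injective h⟩
    · rw [e, orderOf_one] at ho; omega
    · rw [pow_one, ← ho, pow_orderOf_eq_one]
  have hOc : ∀ O : Subgroup R, Nat.card (O.map ir) = Nat.card O := fun O =>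
    card_map_of_injective SemidirectProduct.inr_injective
  have hA' : Cfsg.IsElementaryAbelian 2 (A.map ir) := CfsgLib.Thompson.elab_map ir hA
  have key := CfsgLib.OffenderTwo.sq_le_relIndex ir.range il.range
    ((Cfsg.pPrimeCore 2 R).map ir) hVsq hMV hfaith (map_le_range _ _)
    (by rw [hOc]; exact Nat.coprime_two_right.1 (CfsgLib.Solvable.coprime_card_pPrimeCore 2))
    hno3 _ (A.map ir) (hOc A) (map_le_range _ _)
    (fun a ha b hb => CfsgLib.Thompson.elab_commute hA' ha hb) hA'.2 ?_ ?_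
  · refine key.trans (le_of_eq ?_)
    have e : (il.range ⊓ centralizer ((A.map ir : Subgroup (V ⋊[ρ] R)) : Set (V ⋊[ρ] R))).comap il
        = fixOf ρ A := by
      ext u
      simp only [mem_comap, mem_inf, mem_centralizer_iff, mem_fixOf, MonoidHom.mem_range,
        SetLike.mem_coe, mem_map, forall_exists_index, and_imp, forall_apply_eq_imp_iff₂]
      constructor
      · rintro ⟨-, h⟩ a ha
        refine SemidirectProduct.inl_injective (φ := ρ) ?_
        show il (ρ a u) = il u
        rw [← hconj, h a ha, mul_inv_cancel_right]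
      · intro h
        refine ⟨⟨u, rfl⟩, fun a ha => mul_inv_eq_iff_eq_mul.1 ?_⟩
        rw [hconj, h a ha]
    rw [← e, index_comap]
  · rintro _ ⟨a, -, rfl⟩
    refine mem_normalizer_fintype ?_
    rintro _ ⟨o, ho, rfl⟩
    exact ⟨a * o * a⁻¹, (CfsgLib.Solvable.pPrimeCore_normal 2).conj_mem o ho a, by
      simp only [map_mul, map_inv]⟩
  · rintro _ ⟨a, ha, rfl⟩ hc
    have h1 : a ∈ Cfsg.pPrimeCore 2 R := centralizer_oddCore_le hO
      (mem_centralizer_iff.2 fun o ho => SemidirectProduct.inr_injective (φ := ρ) (by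
        rw [map_mul, map_mul]; exact (hc _ (mem_map_of_mem ir ho)).symm))
    have h2 : orderOf a ∣ 2 := orderOf_dvd_of_pow_eq_one (hA.2 a ha)
    have h4 : orderOf a ∣ Nat.card (Cfsg.pPrimeCore 2 R) := Subgroup.orderOf_dvd_natCard _ h1
    rw [show a = 1 from orderOf_eq_one_iff.1 (Nat.eq_one_of_dvd_coprimes
      (CfsgLib.Solvable.coprime_card_pPrimeCore 2).symm h2 h4), map_one]

/-- The bound for a normal subgroup generated by fixed points of Sylow 2-subgroups. -/
theorem sq_le_normal {X : Type u} [Group X] [Finite X] [Group.IsSolvable X]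
    (hfree : ¬ Cfsg.Involves (Equiv.Perm (Fin 4)) X) (V : Subgroup X) [V.Normal]
    (hV : Cfsg.IsElementaryAbelian 2 V)
    (hgen : V = ⨆ S : Sylow 2 X, V ⊓ centralizer ((S : Subgroup X) : Set X))
    (B : Subgroup X)
    (hBc : ∀ b ∈ B, ∀ c ∈ B, b * c * b⁻¹ * c⁻¹ ∈ centralizer (V : Set X))
    (hBs : ∀ b ∈ B, b ^ 2 ∈ centralizer (V : Set X)) :
    (centralizer (V : Set X)).relIndex B ^ 2 ≤ (centralizer (B : Set X)).relIndex V := by
  haveI : Fact (Nat.Prime 2) := ⟨Nat.prime_two⟩
  letI : CommGroup V := { (inferInstance : Group V) with mul_comm := hV.1.is_comm.comm }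
  set C := centralizer (V : Set X) with hC
  set φ : X →* MulAut V := MulAut.conjNormal with hφ
  have hker : ∀ x : X, φ x = 1 ↔ x ∈ C := by
    intro x
    constructor
    · intro h
      refine mem_centralizer_iff.2 fun v hv => ?_
      have h1 := congrArg Subtype.val (DFunLike.congr_fun h (⟨v, hv⟩ : V))
      rw [hφ, MulAut.conjNormal_apply] at h1
      exact (mul_inv_eq_iff_eq_mul.1 h1).symm
    · intro hx
      refine MulEquiv.ext fun v => Subtype.ext ?_
      rw [hφ, MulAut.conjNormal_apply, MulAut.one_apply, mul_inv_eq_iff_eq_mul]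
      exact (mem_centralizer_iff.1 hx v v.2).symm
  set q := QuotientGroup.mk' C with hq
  set ρ : (X ⧸ C) →* MulAut V := QuotientGroup.lift C φ fun x hx => (hker x).2 hx with hρ
  have hρinj : Function.Injective ρ := by
    rw [injective_iff_map_eq_one]
    intro z hz
    obtain ⟨x, rfl⟩ := QuotientGroup.mk'_surjective C z
    exact (QuotientGroup.eq_one_iff x).2 ((hker x).1 hz)
  have hBel : Cfsg.IsElementaryAbelian 2 (B.map q) := by
    refine ⟨⟨⟨?_⟩⟩, ?_⟩
    · rintro ⟨_, b, hb, rfl⟩ ⟨_, c, hc, rfl⟩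
      refine Subtype.ext (show q b * q c = q c * q b from ?_)
      have : q (b * c * b⁻¹ * c⁻¹) = 1 := (QuotientGroup.eq_one_iff _).2 (hBc b hb c hc)
      rw [map_mul, map_mul, map_mul, map_inv, map_inv, mul_inv_eq_one, mul_inv_eq_iff_eq_mul] at this
      exact this
    · rintro _ ⟨b, hb, rfl⟩
      rw [← map_pow]
      exact (QuotientGroup.eq_one_iff _).2 (hBs b hb)
  have h3 : ¬ CfsgLib.ZJ.Inverts 3 (X ⧸ C) := fun h =>
    hfree (CfsgLib.ZJ.involves_s4_of_action V (CfsgLib.Thompson.elab_isPGroup hV) h)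
  have key := sq_le_action ρ hρinj (fun v => Subtype.ext (hV.2 v v.2))
    (CfsgLib.PLocalCore.pCore_quotient_eq_bot_of_fixed V hgen) h3 (B.map q) hBel
  have e1 : Nat.card (B.map q) = C.relIndex B := by
    rw [← relIndex_ker B q, hq, QuotientGroup.ker_mk']
  have e2 : fixOf ρ (B.map q) = (centralizer (B : Set X)).subgroupOf V := by
    ext v
    rw [mem_fixOf, mem_subgroupOf, mem_centralizer_iff]
    constructor
    · intro h b hb
      have h1 := congrArg Subtype.val (h _ (mem_map_of_mem q hb))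
      rw [show ρ (q b) = φ b from rfl, hφ, MulAut.conjNormal_apply] at h1
      exact mul_inv_eq_iff_eq_mul.1 h1
    · rintro h _ ⟨b, hb, rfl⟩
      refine Subtype.ext ?_
      rw [show ρ (q b) = φ b from rfl, hφ, MulAut.conjNormal_apply, mul_inv_eq_iff_eq_mul]
      exact h b hb
  rw [e1, e2] at key
  exact key

end CfsgLib.PushUpTwo
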