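import Cfsg.Agent.PushUpTwo.Stable
import Cfsg.Agent.PushUpTwo.SqBound
import Cfsg.Agent.LocalB.CharP
import Cfsg.Agent.Signalizer.Basic
import Cfsg.Agent.Solvable.CoprimeAct
import Cfsg.Agent.ZJ.InvolutionSection

/-!
The odd core modulo `O₂` of a solvable local subgroup is generated by elements normalizing `W` and
elements normalizing the Thompson subgroup.
-/

set_option autoImplicit false
set_option linter.style.haveILetI false

namespace CfsgLib.PushUpTwo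

open Subgroup CfsgLib.Functor CfsgLib.Thompson CfsgLib.LocalB
open scoped CfsgLib.Functor

universe u

variable {G : Type u} [Group G]

/-- A solvable subgroup of characteristic 2 without `S₄`-sections. -/
structure LocalGood (X : Subgroup G) : Prop where
  sol : Group.IsSolvable X
  char2 : Cfsg.IsOfCharacteristicTwo ↥X
  free : ¬ Cfsg.Involves (Equiv.Perm (Fin 4)) ↥X

/-- The hypotheses on the subgroup `W` of the 2-group `S`. -/
structure Pushed (S W : Subgroup G) : Prop where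
  hS : IsPGroup 2 S
  hW : Cfsg.IsElementaryAbelian 2 W
  hWS : W ≤ S
  hSW : S ≤ normalizer (W : Set G)
  hWA : ∀ A ∈ maxIn 2 S, W ≤ A
  off : ∀ B ≤ S, (∀ b ∈ B, ∀ c ∈ B, b * c * b⁻¹ * c⁻¹ ∈ centralizer (W : Set G)) →
    (∀ b ∈ B, b ^ 2 ∈ centralizer (W : Set G)) → cidx W B ^ 2 ≤ cidx B W

theorem not_inverts_three [Finite G] {X : Subgroup G} (hX : LocalGood X) :
    ¬ CfsgLib.ZJ.Inverts 3 X := by
  haveI : Fact (Nat.Prime 2) := ⟨Nat.prime_two⟩
  rintro ⟨g, x, hx1, ⟨k, hk⟩, hgx⟩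
  set T := Cfsg.pCore 2 ↥X
  refine hX.free (CfsgLib.ZJ.involves_s4_of_action T (CfsgLib.Solvable.isPGroup_pCore 2)
    ⟨QuotientGroup.mk' _ g, QuotientGroup.mk' _ x, fun he => hx1 ?_,
      ⟨k, by rw [← map_pow, hk, map_one]⟩, by rw [← map_inv, ← map_mul, ← map_mul, hgx, map_inv]⟩)
  have hxT : x ∈ T := hX.char2 ((QuotientGroup.eq_one_iff x).1 he)
  exact eq_one_of_orderOf_coprime (CfsgLib.Solvable.isPGroup_pCore 2) hxT
    (Nat.Coprime.coprime_dvd_left (orderOf_dvd_of_pow_eq_one hk) (Nat.Coprime.pow_left _ (by norm_num)))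

theorem pCore_quotient_core_eq_bot {L : Type u} [Group L] [Finite L] :
    Cfsg.pCore 2 (L ⧸ Cfsg.pCore 2 L) = ⊥ := by
  haveI : Fact (Nat.Prime 2) := ⟨Nat.prime_two⟩
  set q := QuotientGroup.mk' (Cfsg.pCore 2 L)
  have hle : (Cfsg.pCore 2 (L ⧸ Cfsg.pCore 2 L)).comap q ≤ Cfsg.pCore 2 L := by
    refine CfsgLib.Solvable.le_pCore 2 inferInstance ?_
    refine (CfsgLib.Solvable.isPGroup_pCore 2).comap_of_ker_isPGroup q ?_
    rw [QuotientGroup.ker_mk']
    exact CfsgLib.Solvable.isPGroup_pCore 2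
  rw [eq_bot_iff]
  intro z hz
  obtain ⟨x, rfl⟩ := QuotientGroup.mk'_surjective _ z
  exact mem_bot.2 ((QuotientGroup.eq_one_iff x).2 (hle hz))

theorem pCore_le_subgroupOf [Finite G] {X S : Subgroup G} (hS : IsSylowIn 2 S X) :
    Cfsg.pCore 2 ↥X ≤ S.subgroupOf X := by
  haveI : Fact (Nat.Prime 2) := ⟨Nat.prime_two⟩
  have hp : IsPGroup 2 (S.subgroupOf X) := hS.2.1.comap_subtype
  have := CfsgLib.Fitting.pCore_le_sylow (hp.toSylow hS.2.2)
  exact this

theorem opIn_le_sylow [Finite G] {X S : Subgroup G} (hS : IsSylowIn 2 S X) : opIn 2 X ≤ S := by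
  rintro _ ⟨q, hq, rfl⟩
  exact pCore_le_subgroupOf hS hq

/-- An element of the quotient inverted by `a` and centralized by a hyperplane gives a rotation. -/
theorem exists_rot [Finite G] {X S W A : Subgroup G} (hX : LocalGood X) (hS : IsSylowIn 2 S X)
    (hP : Pushed S W) (hA : Cfsg.IsElementaryAbelian 2 A) (hAS : A ≤ S) (hWA : W ≤ A)
    {B : Subgroup (↥X ⧸ Cfsg.pCore 2 ↥X)}
    (hBA : B ≤ (A.subgroupOf X).map (QuotientGroup.mk' _))
    (hB : B.relIndex ((A.subgroupOf X).map (QuotientGroup.mk' _)) = 2)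
    {a : G} (ha : a ∈ A) (haB : QuotientGroup.mk' _ ⟨a, hS.1 (hAS ha)⟩ ∉ B)
    {z : ↥X ⧸ Cfsg.pCore 2 ↥X}
    (hzinv : QuotientGroup.mk' _ ⟨a, hS.1 (hAS ha)⟩ * z *
      (QuotientGroup.mk' _ ⟨a, hS.1 (hAS ha)⟩)⁻¹ = z⁻¹)
    (hzB : ∀ b ∈ B, Commute b z) (hzodd : Odd (orderOf z)) :
    ∃ y : ↥X, ∃ A1, Rot S (opIn 2 X) W A A1 a (y : G) ∧
      z ∈ zpowers (QuotientGroup.mk' (Cfsg.pCore 2 ↥X) y) := by
  haveI : Fact (Nat.Prime 2) := ⟨Nat.prime_two⟩
  set q := QuotientGroup.mk' (Cfsg.pCore 2 ↥X) with hq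
  set a' : ↥X := ⟨a, hS.1 (hAS ha)⟩ with ha'
  have ha2 : a'⁻¹ = a' := Subtype.ext (inv_eq_of_mul_eq_one_right
    (by show a * a = 1; rw [← sq]; exact hA.2 a ha))
  obtain ⟨k, hk⟩ := QuotientGroup.mk'_surjective _ z
  set d := k * a' * k⁻¹ * a'⁻¹ with hd
  have hdinv : a' * d * a'⁻¹ = d⁻¹ := by
    calc a' * d * a'⁻¹ = a' * k * a' * k⁻¹ * (a'⁻¹ * a'⁻¹) := by rw [hd]; group
      _ = a' * k * a'⁻¹ * k⁻¹ := by
        rw [show a'⁻¹ * a'⁻¹ = 1 by nth_rw 1 [ha2]; exact mul_inv_cancel a', mul_one, ha2]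
      _ = d⁻¹ := by rw [hd]; group
  have hqd : q d = z ^ 2 := by
    rw [hd, map_mul, map_mul, map_mul, map_inv, map_inv, hk]
    calc z * q a' * z⁻¹ * (q a')⁻¹ = z * (q a' * z * (q a')⁻¹)⁻¹ := by group
      _ = z ^ 2 := by rw [hzinv, inv_inv, sq]
  obtain ⟨t, m, hm, hdm⟩ : ∃ t m, Odd m ∧ orderOf d = 2 ^ t * m := by
    obtain ⟨t, m, hm, he⟩ := Nat.exists_eq_pow_mul_and_not_dvd (orderOf_pos d).ne' 2 (by norm_num)
    exact ⟨t, m, Nat.odd_iff.2 (Nat.two_dvd_ne_zero.1 hm), he⟩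
  set y := d ^ (2 ^ t) with hy
  have hyinv : a' * y * a'⁻¹ = y⁻¹ := by rw [hy, ← conj_pow, hdinv, inv_pow]
  have hyodd : Odd (orderOf y) := by
    refine hm.of_dvd_nat (orderOf_dvd_of_pow_eq_one ?_)
    rw [hy, ← pow_mul, ← hdm, pow_orderOf_eq_one]
  have hqy : q y = z ^ (2 ^ (t + 1)) := by rw [hy, map_pow, hqd, ← pow_mul, pow_succ']
  have hzy : z ∈ zpowers (q y) := by
    rw [hqy]
    obtain ⟨j, hj⟩ := exists_pow_eq_self_of_coprime
      (Nat.Coprime.pow_left (t + 1) (Nat.coprime_two_left.2 hzodd) : (2 ^ (t + 1)).Coprime (orderOf z))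
    exact mem_zpowers_iff.2 ⟨j, by rw [zpow_natCast]; exact hj⟩
  set A1 := (B.comap q).map X.subtype ⊓ A with hA1
  have haA1 : a ∉ A1 := fun h => haB (by
    obtain ⟨x, hx, hxa⟩ := h.1
    rw [show a' = x from Subtype.ext hxa.symm]
    exact hx)
  have hidx : A1.relIndex A = 2 := by
    rw [hA1, inf_relIndex_right]
    conv_lhs => arg 2; rw [← map_subgroupOf_eq_of_le (hAS.trans hS.1)]
    rw [relIndex_map_map_of_injective _ _ X.subtype_injective, relIndex_comap, hB]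
  have hcomm : ∀ s ∈ A1, (y : G) * s * (y : G)⁻¹ * s⁻¹ ∈ opIn 2 X := by
    rintro _ ⟨⟨x, hx, rfl⟩, -⟩
    refine ⟨y * x * y⁻¹ * x⁻¹, (QuotientGroup.eq_one_iff _).1 ?_, rfl⟩
    show q (y * x * y⁻¹ * x⁻¹) = 1
    have hc : Commute (q x) (q y) := hqy ▸ (hzB (q x) hx).pow_right _
    rw [map_mul, map_mul, map_mul, map_inv, map_inv, ← hc.eq, mul_inv_cancel_right, mul_inv_cancel]
  refine ⟨y, A1, ?_, hzy⟩
  exact
    { hS := hP.hS
      hQS := opIn_le_sylow hS
      hSQ := hS.1.trans (le_normalizer_opIn X)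
      hyQ := le_normalizer_opIn X y.2
      hW := hP.hW
      hWS := hP.hWS
      hSW := hP.hSW
      hA := hA
      hAS := hAS
      hWA := hWA
      haA := ha
      haA1 := haA1
      hA1 := inf_le_right
      idx := hidx
      inv := by simpa [ha'] using congrArg Subtype.val hyinv
      odd := by rwa [Subgroup.orderOf_coe]
      comm := hcomm
      charp := fun l hl => by
        refine eq_one_of_charP hX.char2 (zpow_mem y.2 l) ?_ hl
        refine Nat.Coprime.coprime_dvd_left (orderOf_dvd_of_mem_zpowers (zpow_mem (mem_zpowers _) l)) ?_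
        rw [Subgroup.orderOf_coe]
        exact Nat.coprime_two_right.2 hyodd
      off := hP.off }

theorem inverted_quotient_data {R : Type u} [Group R] {a k : R} (ha : a * a = 1) :
    a * (k⁻¹ * (a * k * a⁻¹)) * a⁻¹ = (k⁻¹ * (a * k * a⁻¹))⁻¹ := by
  have hai : a⁻¹ = a := inv_eq_of_mul_eq_one_right ha
  calc a * (k⁻¹ * (a * k * a⁻¹)) * a⁻¹ = a * k⁻¹ * a * k * (a⁻¹ * a⁻¹) := by group
    _ = a * k⁻¹ * a⁻¹ * k := by rw [show a⁻¹ * a⁻¹ = 1 by rw [hai, ha], mul_one, hai]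
    _ = _ := by group

/-- `W` lies in `O₂(X)`. -/
theorem le_opIn_of_pushed [Finite G] {X S W : Subgroup G} (hX : LocalGood X)
    (hS : IsSylowIn 2 S X) (hP : Pushed S W) : W ≤ opIn 2 X := by
  haveI : Fact (Nat.Prime 2) := ⟨Nat.prime_two⟩
  haveI := hX.sol
  set q := QuotientGroup.mk' (Cfsg.pCore 2 ↥X) with hq
  haveI : Group.IsSolvable (↥X ⧸ Cfsg.pCore 2 ↥X) :=
    Group.isSolvable_of_surjective (QuotientGroup.mk'_surjective _)
  set F := Cfsg.pPrimeCore 2 (↥X ⧸ Cfsg.pCore 2 ↥X)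
  have hFc := centralizer_oddCore_le (R := ↥X ⧸ Cfsg.pCore 2 ↥X) pCore_quotient_core_eq_bot
  have hFco := CfsgLib.Solvable.coprime_card_pPrimeCore (G := ↥X ⧸ Cfsg.pCore 2 ↥X) 2
  set Wb := (W.subgroupOf X).map q with hWb
  have hWel : Cfsg.IsElementaryAbelian 2 Wb := elab_map _ (elab_subgroupOf hP.hW X)
  intro w hw
  have hwX : w ∈ X := hS.1 (hP.hWS hw)
  suffices hall : ∀ o ∈ F, Commute (q ⟨w, hwX⟩) o by
    have h1 : q ⟨w, hwX⟩ ∈ F := hFc (mem_centralizer_iff.2 fun o ho => (hall o ho).eq.symm)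
    have h2 : orderOf (q ⟨w, hwX⟩) ∣ 2 :=
      orderOf_dvd_of_pow_eq_one (hWel.2 _ (mem_map_of_mem q hw))
    have h3 : q ⟨w, hwX⟩ = 1 := orderOf_eq_one_iff.1
      (Nat.eq_one_of_dvd_coprimes hFco.symm h2 (Subgroup.orderOf_dvd_natCard F h1))
    exact ⟨⟨w, hwX⟩, (QuotientGroup.eq_one_iff _).1 h3, rfl⟩
  by_contra hne
  push Not at hne
  obtain ⟨k0, hk0, hne⟩ := hne
  obtain ⟨B, hBW, hBidx, k, hk, hBk, e, he, hek⟩ := CfsgLib.PSoluble.TwoConj.exists_hyperplane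
    (p := 2) (K := F) (fun u hu v hv => elab_commute hWel hu hv) hWel.2
    (le_normalizer_of_normal.trans_eq rfl) hFco hk0 (mem_map_of_mem q hw) hne
  obtain ⟨⟨a, haX⟩, haW, rfl⟩ := he
  have haB : q ⟨a, haX⟩ ∉ B := fun h => hek (hBk _ h)
  have ha2 : q ⟨a, haX⟩ * q ⟨a, haX⟩ = 1 := by
    rw [← sq]; exact hWel.2 _ (mem_map_of_mem q haW)
  set z := k⁻¹ * (q ⟨a, haX⟩ * k * (q ⟨a, haX⟩)⁻¹) with hz
  have hzF : z ∈ F := mul_mem (inv_mem hk) ((CfsgLib.Solvable.pPrimeCore_normal 2).conj_mem k hk _)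
  have hzodd : Odd (orderOf z) := (Nat.coprime_two_right.1 hFco).of_dvd_nat
    (Subgroup.orderOf_dvd_natCard F hzF)
  have hzB : ∀ b ∈ B, Commute b z := fun b hb => by
    have h1 : Commute b (q ⟨a, haX⟩) := elab_commute hWel (hBW hb) (mem_map_of_mem q haW)
    exact (hBk b hb).inv_right.mul_right ((h1.mul_right (hBk b hb)).mul_right h1.inv_right)
  obtain ⟨y, A1, hrot, hzy⟩ := exists_rot hX hS hP hP.hW hP.hWS le_rfl hBW hBidx haW haB
    (inverted_quotient_data ha2) hzB hzodd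
  have hy1 : y = 1 := Subtype.ext (hrot.eq_one_of_self le_rfl)
  rw [hy1, map_one, zpowers_one_eq_bot, mem_bot] at hzy
  refine hek ?_
  have h1 := inv_mul_eq_one.1 hzy
  exact mul_inv_eq_iff_eq_mul.1 h1.symm

/-- The preimage of the odd core of the quotient by `O₂(X)`. -/
theorem comap_oddCore_le [Finite G] {X S W : Subgroup G} (hX : LocalGood X)
    (hS : IsSylowIn 2 S X) (hP : Pushed S W) :
    (Cfsg.pPrimeCore 2 (↥X ⧸ Cfsg.pCore 2 ↥X)).comap (QuotientGroup.mk' _) ≤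
      (normalizer (W : Set G)).subgroupOf X ⊔
        (normalizer (Cfsg.thompsonSubgroupOf 2 S : Set G)).subgroupOf X := by
  haveI : Fact (Nat.Prime 2) := ⟨Nat.prime_two⟩
  haveI := hX.sol
  set q := QuotientGroup.mk' (Cfsg.pCore 2 ↥X) with hq
  haveI : Group.IsSolvable (↥X ⧸ Cfsg.pCore 2 ↥X) :=
    Group.isSolvable_of_surjective (QuotientGroup.mk'_surjective _)
  set F := Cfsg.pPrimeCore 2 (↥X ⧸ Cfsg.pCore 2 ↥X) with hF
  haveI : F.Normal := CfsgLib.Solvable.pPrimeCore_normal 2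
  have hFco := CfsgLib.Solvable.coprime_card_pPrimeCore (G := ↥X ⧸ Cfsg.pCore 2 ↥X) 2
  have hFodd : ¬ 2 ∣ Nat.card F := (Nat.prime_two.coprime_iff_not_dvd).1 hFco.symm
  set L := ((normalizer (W : Set G)).subgroupOf X).map q with hL
  have hWQ := le_opIn_of_pushed hX hS hP
  have hQN : Cfsg.pCore 2 ↥X ≤ (normalizer (W : Set G)).subgroupOf X := fun x hx =>
    hP.hSW (opIn_le_sylow hS ⟨x, hx, rfl⟩)
  let bar : Subgroup G → Subgroup (↥X ⧸ Cfsg.pCore 2 ↥X) := fun A => (A.subgroupOf X).map q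
  let T : Subgroup G → Subgroup (↥X ⧸ Cfsg.pCore 2 ↥X) := fun A =>
    closure {z | z ∈ F ∧ ∃ a ∈ bar A, ∃ B ≤ bar A, B.relIndex (bar A) = 2 ∧ a ∉ B ∧
      a * z * a⁻¹ = z⁻¹ ∧ ∀ b ∈ B, Commute b z}
  have hAel : ∀ A ∈ maxIn 2 S, Cfsg.IsElementaryAbelian 2 (bar A) := fun A hA =>
    elab_map _ (elab_subgroupOf hA.2.1 X)
  have hTF : ∀ A, T A ≤ F := fun A => (closure_le _).2 fun z hz => hz.1
  have hTL : ∀ A ∈ maxIn 2 S, T A ≤ L := by
    intro A hA
    refine (closure_le _).2 ?_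
    rintro z ⟨hzF, _, ⟨⟨a, haX⟩, haA, rfl⟩, B, hBA, hBidx, haB, hinv, hzB⟩
    obtain ⟨y, A1, hrot, hzy⟩ := exists_rot hX hS hP hA.2.1 hA.1 (hP.hWA A hA) hBA hBidx haA haB
      hinv hzB ((Nat.coprime_two_right.1 hFco).of_dvd_nat (Subgroup.orderOf_dvd_natCard F hzF))
    have hyN : (y : G) ∈ normalizer (W : Set G) := by
      refine hrot.mem_normalizer_of_le hWQ hA fun h3 => not_inverts_three hX ?_
      rw [Subgroup.orderOf_coe] at h3
      have hx : orderOf (y ^ (orderOf y / 3)) = 3 := orderOf_pow_orderOf_div (orderOf_pos y).ne' h3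
      refine ⟨⟨a, haX⟩, y ^ (orderOf y / 3), fun h1 => ?_, ⟨1, ?_⟩, ?_⟩
      · rw [h1, orderOf_one] at hx; omega
      · rw [pow_one]
        nth_rw 2 [← hx]
        exact pow_orderOf_eq_one _
      · rw [← conj_pow, show (⟨a, haX⟩ : ↥X) * y * (⟨a, haX⟩ : ↥X)⁻¹ = y⁻¹ from Subtype.ext hrot.inv,
          inv_pow]
    exact (zpowers_le.2 (mem_map_of_mem q hyN)) hzy
  have hTn : ∀ A ∈ maxIn 2 S, F ⊓ centralizer (bar A : Set _) ≤ normalizer (T A : Set _) := by
    intro A hA c hc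
    refine mem_normalizer_fintype ?_
    intro u hu
    induction hu using closure_induction with
    | mem z hz =>
      obtain ⟨hzF, a, ha, B, hBA, hBidx, haB, hinv, hzB⟩ := hz
      refine subset_closure ⟨Normal.conj_mem ‹F.Normal› z hzF c, a, ha, B, hBA, hBidx, haB, ?_, ?_⟩
      · have hca : Commute a c := mem_centralizer_iff.1 hc.2 a ha
        calc a * (c * z * c⁻¹) * a⁻¹ = (a * c * a⁻¹) * (a * z * a⁻¹) * (a * c * a⁻¹)⁻¹ := by group
          _ = _ := by rw [hca.eq, mul_inv_cancel_right, hinv]; group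
      · intro b hb
        have hcb : Commute b c := mem_centralizer_iff.1 hc.2 b (hBA hb)
        exact (hcb.mul_right (hzB b hb)).mul_right hcb.inv_right
    | one => simp
    | mul u v _ _ ihu ihv =>
      rw [show c * (u * v) * c⁻¹ = c * u * c⁻¹ * (c * v * c⁻¹) by group]
      exact mul_mem ihu ihv
    | inv u _ ihu =>
      rw [show c * u⁻¹ * c⁻¹ = (c * u * c⁻¹)⁻¹ by group]
      exact inv_mem ihu
  have hFle : ∀ A ∈ maxIn 2 S, F ≤ T A ⊔ (F ⊓ centralizer (bar A : Set _)) := by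
    intro A hA
    refine CfsgLib.Signalizer.le_of_forall_hyperplane (p := 2) (hAel A hA)
      (le_normalizer_of_normal.trans_eq rfl) hFodd fun B hBA hBidx k hk => ?_
    by_cases hkA : k ∈ centralizer (bar A : Set _)
    · exact mem_sup_right ⟨hk.1, hkA⟩
    rw [mem_centralizer_iff] at hkA
    push Not at hkA
    obtain ⟨a, ha, hak⟩ := hkA
    have haB : a ∉ B := fun h => hak (mem_centralizer_iff.1 hk.2 a h)
    have hidx : B.relIndex (bar A) = 2 := by
      have h1 : B.relIndex (bar A) ≠ 1 := fun e => haB (relIndex_eq_one.1 e ha)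
      have h2 := relIndex_pos' B (bar A)
      omega
    have ha2 : a * a = 1 := by rw [← sq]; exact (hAel A hA).2 a ha
    set z := k⁻¹ * (a * k * a⁻¹) with hz
    have hzF : z ∈ F := mul_mem (inv_mem hk.1) (Normal.conj_mem ‹F.Normal› k hk.1 a)
    have hzB : ∀ b ∈ B, Commute b z := fun b hb => by
      have h1 : Commute b a := elab_commute (hAel A hA) (hBA hb) ha
      have h2 : Commute b k := mem_centralizer_iff.1 hk.2 b hb
      exact h2.inv_right.mul_right ((h1.mul_right h2).mul_right h1.inv_right)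
    have hinv := inverted_quotient_data (k := k) ha2
    have hzT : z ∈ T A := subset_closure ⟨hzF, a, ha, B, hBA, hidx, haB, hinv, hzB⟩
    obtain ⟨j, hj⟩ := (Nat.coprime_two_right.1 hFco).of_dvd_nat (Subgroup.orderOf_dvd_natCard F hzF)
    have hfix : a * (k * z ^ (j + 1)) * a⁻¹ = k * z ^ (j + 1) := by
      calc a * (k * z ^ (j + 1)) * a⁻¹ = (k * z) * (a * z ^ (j + 1) * a⁻¹) := by rw [hz]; group
        _ = (k * z) * (z⁻¹) ^ (j + 1) := by rw [← conj_pow, hinv]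
        _ = k * (z * (z⁻¹) ^ (j + 1)) := mul_assoc _ _ _
        _ = k * z ^ (j + 1) := by
          congr 1
          rw [inv_pow, eq_comm, ← mul_inv_eq_one, mul_inv_rev, inv_inv, ← mul_assoc, ← pow_add,
            show j + 1 + (j + 1) = orderOf z + 1 by omega, pow_succ, pow_orderOf_eq_one, one_mul,
            mul_inv_cancel]
    have hcen : k * z ^ (j + 1) ∈ centralizer (bar A : Set _) := by
      refine mem_centralizer_iff.2 fun b hb => ?_
      have hB' : ∀ b ∈ B, Commute b (k * z ^ (j + 1)) := fun b hb =>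
        Commute.mul_right (mem_centralizer_iff.1 hk.2 b hb) ((hzB b hb).pow_right _)
      rcases relIndex_two_cases hidx ha haB hb with h' | h'
      · exact hB' b h'
      · have h1 : Commute a (k * z ^ (j + 1)) := mul_inv_eq_iff_eq_mul.1 hfix
        have := h1.inv_left.mul_left (hB' _ h')
        rwa [inv_mul_cancel_left] at this
    have e : k = (k * z ^ (j + 1)) * (z ^ (j + 1))⁻¹ := by group
    rw [e]
    exact mul_mem (mem_sup_right ⟨mul_mem hk.1 (pow_mem hzF _), hcen⟩)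
      (mem_sup_left (inv_mem (pow_mem hzT _)))
  have hFn : ∀ A ∈ maxIn 2 S, F ≤ normalizer (T A : Set _) := fun A hA =>
    (hFle A hA).trans (sup_le le_normalizer (hTn A hA))
  have hcom : ∀ A ∈ maxIn 2 S, ∀ a ∈ bar A, ∀ k ∈ F, k * a * k⁻¹ * a⁻¹ ∈ T A := by
    intro A hA a ha k hk
    have hTa : ∀ u ∈ T A, a * u * a⁻¹ ∈ T A := by
      intro u hu
      induction hu using closure_induction with
      | mem z hz =>
        obtain ⟨hzF, b0, hb0, B, hBA, hBidx, hb0B, hinv, hzB⟩ := hz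
        refine subset_closure ⟨Normal.conj_mem ‹F.Normal› z hzF a, b0, hb0, B, hBA, hBidx, hb0B, ?_, ?_⟩
        · have h1 : Commute b0 a := elab_commute (hAel A hA) hb0 ha
          calc b0 * (a * z * a⁻¹) * b0⁻¹ = (b0 * a * b0⁻¹) * (b0 * z * b0⁻¹) * (b0 * a * b0⁻¹)⁻¹ := by
                group
            _ = _ := by rw [h1.eq, mul_inv_cancel_right, hinv]; group
        · intro b hb
          have h1 : Commute b a := elab_commute (hAel A hA) (hBA hb) ha
          exact (h1.mul_right (hzB b hb)).mul_right h1.inv_right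
      | one => simp
      | mul u v _ _ ihu ihv =>
        rw [show a * (u * v) * a⁻¹ = a * u * a⁻¹ * (a * v * a⁻¹) by group]
        exact mul_mem ihu ihv
      | inv u _ ihu =>
        rw [show a * u⁻¹ * a⁻¹ = (a * u * a⁻¹)⁻¹ by group]
        exact inv_mem ihu
    obtain ⟨c, hc, l, hl, rfl⟩ := (CfsgLib.Solvable.mem_sup_of_le_normalizer (hTn A hA)).1
      (sup_comm (T A) _ ▸ hFle A hA hk)
    have hca : Commute a c := mem_centralizer_iff.1 hc.2 a ha
    rw [show c * l * a * (c * l)⁻¹ * a⁻¹ = c * (l * a * l⁻¹ * a⁻¹) * c⁻¹ * (c * a * c⁻¹ * a⁻¹) by group,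
      hca.symm.eq, mul_inv_cancel_right, mul_inv_cancel, mul_one]
    refine (mem_normalizer_iff.1 (hTn A hA hc) _).1 ?_
    rw [show l * a * l⁻¹ * a⁻¹ = l * (a * l⁻¹ * a⁻¹) by group]
    exact mul_mem hl (hTa _ (inv_mem hl))
  set TT := ⨆ A ∈ maxIn 2 S, T A with hTT
  have hTTF : TT ≤ F := iSup₂_le fun A _ => hTF A
  have hTTL : TT ≤ L := iSup₂_le hTL
  have hTTn : F ≤ normalizer (TT : Set _) := by
    intro k hk
    refine mem_normalizer_fintype fun u hu => ?_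
    have hle : TT ≤ (TT.comap (MulAut.conj k).toMonoidHom) := iSup₂_le fun A hA v hv =>
      mem_comap.2 (le_iSup₂ (f := fun A _ => T A) A hA ((mem_normalizer_iff.1 (hFn A hA hk) v).1 hv))
    exact hle hu
  set J := Cfsg.thompsonSubgroupOf 2 S with hJ
  have hJS : J ≤ S := thompsonSubgroupOf_le S
  have hJeq : bar J = ⨆ A ∈ maxIn 2 S, bar A := by
    refine le_antisymm ?_ (iSup₂_le fun A hA => map_mono (comap_mono
      ((le_sSup hA : A ≤ sSup (maxIn 2 S)).trans (thompsonSubgroupOf_eq S).ge)))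
    rintro _ ⟨⟨x, hxX⟩, hx, rfl⟩
    have hle : J ≤ ((⨆ A ∈ maxIn 2 S, bar A).comap q).map X.subtype := by
      rw [hJ, thompsonSubgroupOf_eq]
      refine sSup_le fun A hA v hv => ?_
      exact ⟨⟨v, hS.1 (hA.1 hv)⟩, le_iSup₂ (f := fun A _ => bar A) A hA (mem_map_of_mem q hv), rfl⟩
    obtain ⟨x', hx', he⟩ := hle hx
    rw [show (⟨x, hxX⟩ : ↥X) = x' from Subtype.ext he.symm]
    exact hx'
  let CM : Subgroup (↥X ⧸ Cfsg.pCore 2 ↥X) :=
    { carrier := {j | (∀ u ∈ TT, j * u * j⁻¹ ∈ TT) ∧ ∀ k ∈ F, k * j * k⁻¹ * j⁻¹ ∈ TT}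
      one_mem' := ⟨fun u hu => by simpa using hu, fun k _ => by simp⟩
      mul_mem' := by
        rintro i j ⟨hi, hi'⟩ ⟨hj, hj'⟩
        refine ⟨fun u hu => ?_, fun k hk => ?_⟩
        · rw [show i * j * u * (i * j)⁻¹ = i * (j * u * j⁻¹) * i⁻¹ by group]
          exact hi _ (hj u hu)
        · rw [show k * (i * j) * k⁻¹ * (i * j)⁻¹ =
            (k * i * k⁻¹ * i⁻¹) * (i * (k * j * k⁻¹ * j⁻¹) * i⁻¹) by group]
          exact mul_mem (hi' k hk) (hi _ (hj' k hk))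
      inv_mem' := by
        rintro i ⟨hi, hi'⟩
        have hiN : i ∈ normalizer (TT : Set _) := mem_normalizer_fintype hi
        refine ⟨fun u hu => (mem_normalizer_iff.1 (inv_mem hiN) u).1 hu, fun k hk => ?_⟩
        rw [show k * i⁻¹ * k⁻¹ * i⁻¹⁻¹ = i⁻¹ * ((i * k * i⁻¹) * k⁻¹) * i by group]
        have h1 : (i * k * i⁻¹) * k⁻¹ ∈ TT := by
          rw [show i * k * i⁻¹ * k⁻¹ = (k * i * k⁻¹ * i⁻¹)⁻¹ by group]
          exact inv_mem (hi' k hk)
        simpa using (mem_normalizer_iff.1 (inv_mem hiN) _).1 h1 }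
  have hJC : bar J ≤ CM := by
    rw [hJeq]
    refine iSup₂_le fun A hA a ha => ?_
    have key : ∀ k ∈ F, k * a * k⁻¹ * a⁻¹ ∈ TT := fun k hk =>
      le_iSup₂ (f := fun A _ => T A) A hA (hcom A hA a ha k hk)
    refine ⟨fun u hu => ?_, key⟩
    rw [show a * u * a⁻¹ = (u * a * u⁻¹ * a⁻¹)⁻¹ * u by group]
    exact mul_mem (inv_mem (key u (hTTF hu))) hu
  have hcomle : ⁅F, bar J⁆ ≤ TT := commutator_le.2 fun k hk j hj => (hJC hj).2 k hk
  have hJp : IsPGroup 2 (bar J) := ((hP.hS.to_le hJS).comap_subtype).map _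
  have hsplit := CfsgLib.CoprimeAct.commutator_sup_centralizer (A := bar J) (K := F)
    (le_normalizer_of_normal.trans_eq rfl)
    (by obtain ⟨n, hn⟩ := hJp.exists_card_eq; rw [hn]; exact Nat.Coprime.pow_left n hFco.symm)
    (Or.inr (Group.isSolvable_of_isSolvable_injective F.subtype_injective))
  have hC : F ⊓ centralizer (bar J : Set _) ≤
      ((normalizer (J : Set G)).subgroupOf X).map q := by
    rintro c ⟨-, hc⟩
    obtain ⟨g, rfl⟩ := QuotientGroup.mk'_surjective _ c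
    refine mem_map_of_mem q ?_
    show (g : G) ∈ normalizer (J : Set G)
    refine mem_normalizer_iff_cj.2 (CfsgLib.Solvable.eq_of_le_of_card_le ?_ (card_cj _ J).ge)
    have hgJ : ∀ v ∈ J, (g : G) * v * (g : G)⁻¹ ∈ S := by
      intro v hv
      have h1 : q g * q ⟨v, hS.1 (hJS hv)⟩ * (q g)⁻¹ * (q ⟨v, hS.1 (hJS hv)⟩)⁻¹ = 1 := by
        rw [← mem_centralizer_iff.1 hc (q ⟨v, hS.1 (hJS hv)⟩) (mem_map_of_mem q hv),
          mul_inv_cancel_right, mul_inv_cancel]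
      rw [← map_inv, ← map_inv, ← map_mul, ← map_mul, ← map_mul] at h1
      have h2 := mul_mem (opIn_le_sylow hS ⟨_, (QuotientGroup.eq_one_iff _).1 h1, rfl⟩) (hJS hv)
      simpa using h2
    rw [hJ, thompsonSubgroupOf_eq, map_le_iff_le_comap]
    refine sSup_le fun A hA => map_le_iff_le_comap.1 (le_sSup ?_)
    refine ⟨cj_le_iff.2 fun v hv => hgJ v ((le_sSup hA : A ≤ sSup (maxIn 2 S)).trans
        (thompsonSubgroupOf_eq S).ge hv), elab_map _ hA.2.1, fun D hD hD' => ?_⟩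
    rw [card_cj]
    exact hA.2.2 D hD hD'
  intro x hx
  have h1 : q x ∈ ((normalizer (W : Set G)).subgroupOf X ⊔
      (normalizer (J : Set G)).subgroupOf X).map q := by
    rw [Subgroup.map_sup]
    exact (hsplit.ge.trans (sup_le_sup (hcomle.trans hTTL) hC)) hx
  obtain ⟨x', hx', he⟩ := h1
  have h2 : x'⁻¹ * x ∈ Cfsg.pCore 2 ↥X := by
    refine (QuotientGroup.eq_one_iff _).1 ?_
    show q (x'⁻¹ * x) = 1
    rw [map_mul, map_inv, he, inv_mul_cancel]
  have h3 := mul_mem hx' (mem_sup_left (hQN h2) : x'⁻¹ * x ∈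
    (normalizer (W : Set G)).subgroupOf X ⊔ (normalizer (J : Set G)).subgroupOf X)
  rwa [mul_inv_cancel_left] at h3

end CfsgLib.PushUpTwo
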