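import Cfsg.Agent.PushUpTwo.Inverted
import Cfsg.Agent.PLocal.StableClosure

/-!
Factorizations of solvable local subgroups of characteristic 2 without `S₄`-sections.
-/

set_option autoImplicit false
set_option linter.style.haveILetI false

namespace CfsgLib.PushUpTwo

open Subgroup CfsgLib.Functor CfsgLib.Thompson CfsgLib.LocalB
open scoped CfsgLib.Functor

universe u

variable {G : Type u} [Group G] [Finite G]

theorem LocalGood.mono {X Y : Subgroup G} (hX : LocalGood X) (hYX : Y ≤ X)
    (hQ : opIn 2 X ≤ Y) : LocalGood Y := by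
  haveI : Fact (Nat.Prime 2) := ⟨Nat.prime_two⟩
  haveI := hX.sol
  refine ⟨Group.isSolvable_of_isSolvable_injective (inclusion_injective hYX), ?_, fun h => hX.free ?_⟩
  · refine charP_of_forall fun w hw hcop hcomm => eq_one_of_charP hX.char2 (hYX hw) hcop fun d hd => ?_
    exact hcomm d (opIn_inf_le hYX ⟨hQ hd, hd⟩)
  · exact CfsgLib.ZJ.involves_of_hom (Y.subgroupOf X) (subgroupOfEquivOfLe hYX).toMonoidHom
      (MulEquiv.surjective _) h

/-- An inductive generation: `X` is generated by the normalizers of `W` and `J(S)`. -/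
theorem le_sup_normalizers {S W : Subgroup G} (hP : Pushed S W) :
    ∀ (n : ℕ) (X : Subgroup G), Nat.card X = n → LocalGood X → IsSylowIn 2 S X →
      X ≤ normalizer (W : Set G) ⊔ normalizer (Cfsg.thompsonSubgroupOf 2 S : Set G) := by
  haveI : Fact (Nat.Prime 2) := ⟨Nat.prime_two⟩
  intro n
  induction n using Nat.strong_induction_on with | _ n ih => ?_
  intro X hn hX hS
  haveI := hX.sol
  set H := normalizer (W : Set G) ⊔ normalizer (Cfsg.thompsonSubgroupOf 2 S : Set G) with hH
  set Q := Cfsg.pCore 2 ↥X with hQ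
  haveI : Group.IsSolvable (↥X ⧸ Q) :=
    Group.isSolvable_of_surjective (QuotientGroup.mk'_surjective _)
  set F := Cfsg.pPrimeCore 2 (↥X ⧸ Q) with hF
  haveI : F.Normal := CfsgLib.Solvable.pPrimeCore_normal 2
  set K := F.comap (QuotientGroup.mk' Q) with hK
  have hKH : K ≤ H.subgroupOf X := by
    refine (comap_oddCore_le hX hS hP).trans (sup_le ?_ ?_) <;>
      exact comap_mono (by simp [hH])
  intro x hx
  by_cases hKtop : K = ⊤
  · exact hKH (hKtop ▸ mem_top (⟨x, hx⟩ : ↥X))
  set Y := (↥X ⧸ Q) ⧸ F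
  set f : ↥X →* Y := (QuotientGroup.mk' F).comp (QuotientGroup.mk' Q) with hf
  have hfs : Function.Surjective f :=
    (QuotientGroup.mk'_surjective F).comp (QuotientGroup.mk'_surjective Q)
  haveI : Group.IsSolvable Y := Group.isSolvable_of_surjective hfs
  have hker : f.ker = K := by
    rw [hf, ← MonoidHom.comap_bot, ← comap_comap, MonoidHom.comap_bot, QuotientGroup.ker_mk']
  have hYnt : (⊤ : Subgroup Y) ≠ ⊥ := fun h => hKtop (eq_top_iff.2 fun z _ => by
    rw [← hker, MonoidHom.mem_ker]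
    exact mem_bot.1 (h ▸ mem_top (f z)))
  set Rb := Cfsg.pCore 2 Y with hRb
  have hRb1 : Rb ≠ ⊥ := by
    obtain ⟨M, hM, hM1, -, -, -, q, hq, -, hMq⟩ :=
      CfsgLib.Solvable.exists_normal_elementary_le hYnt inferInstance
    by_cases h2 : q = 2
    · subst h2
      intro h
      exact hM1 (le_bot_iff.1 (h ▸ CfsgLib.Solvable.le_pCore 2 hM hMq))
    exfalso
    haveI := Fact.mk hq
    obtain ⟨e, he⟩ := hMq.exists_card_eq
    set M' := M.comap (QuotientGroup.mk' F) with hM'
    have hc : Nat.card M' = Nat.card F * Nat.card M := by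
      have hle : F ≤ M' := fun z hz => by
        rw [hM', mem_comap, show QuotientGroup.mk' F z = 1 from (QuotientGroup.eq_one_iff z).2 hz]
        exact one_mem _
      rw [← relIndex_bot_left, ← relIndex_bot_left, ← relIndex_mul_relIndex ⊥ F M' bot_le hle]
      congr 1
      calc F.relIndex M' = (⊥ : Subgroup Y).relIndex (M'.map (QuotientGroup.mk' F)) := by
            rw [← relIndex_comap, MonoidHom.comap_bot, QuotientGroup.ker_mk']
        _ = Nat.card M := by
          rw [hM', map_comap_eq_self_of_surjective (QuotientGroup.mk'_surjective F), relIndex_bot_left]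
    have hle : M' ≤ F := CfsgLib.Solvable.le_pPrimeCore 2 (hM.comap _) (by
      rw [hc, he]
      exact (CfsgLib.Solvable.coprime_card_pPrimeCore 2).mul_left
        (((Nat.coprime_primes hq Nat.prime_two).2 h2).pow_left e))
    refine hM1 (eq_bot_iff.2 fun z hz => ?_)
    obtain ⟨z', rfl⟩ := QuotientGroup.mk'_surjective F z
    exact mem_bot.2 ((QuotientGroup.eq_one_iff z').2 (hle hz))
  set R := Rb.comap f with hR
  haveI : R.Normal := Normal.comap inferInstance f
  have hKR : K ≤ R := fun z hz => by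
    rw [hR, mem_comap, show f z = 1 from (hker.symm ▸ hz : z ∈ f.ker)]
    exact one_mem _
  obtain ⟨k, hk⟩ : ∃ k, K.relIndex R = 2 ^ k := by
    obtain ⟨k, hk⟩ := IsPGroup.iff_card.mp (CfsgLib.Solvable.isPGroup_pCore (G := Y) 2)
    refine ⟨k, ?_⟩
    rw [← hker, ← MonoidHom.comap_bot, hR, relIndex_comap, map_comap_eq_self_of_surjective hfs,
      relIndex_bot_left]
    exact hk
  set P : Sylow 2 X := (hS.2.1.comap_subtype (K := X)).toSylow hS.2.2 with hPdef
  have hPS : (P : Subgroup ↥X) = S.subgroupOf X := rfl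
  have hRle := CfsgLib.PLocalCore.le_sup_sylow_inf hKR hk P
  rw [hPS] at hRle
  set T0 := S.subgroupOf X ⊓ R with hT0
  have hT0p : IsPGroup 2 T0 := hS.2.1.comap_subtype.to_le inf_le_left
  have hT0Q : ¬ T0 ≤ Q := fun hle => hRb1 (by
    have hQK : Q ≤ K := fun z hz => by
      rw [hK, mem_comap, show QuotientGroup.mk' Q z = 1 from (QuotientGroup.eq_one_iff z).2 hz]
      exact one_mem _
    have hRK : R ≤ K := hRle.trans (sup_le le_rfl (hle.trans hQK))
    refine eq_bot_iff.2 fun z hz => ?_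
    obtain ⟨z', rfl⟩ := hfs z
    exact mem_bot.2 (hker.symm ▸ hRK hz : z' ∈ f.ker))
  have hfr : normalizer (T0 : Set ↥X) ⊔ K = ⊤ := by
    have hidx : ¬ 2 ∣ (T0.subgroupOf R).index := by
      change ¬ 2 ∣ T0.relIndex R
      rw [hT0, inf_relIndex_right]
      exact fun hd => P.not_dvd_index' Subgroup.index_ne_zero_of_finite
        (hd.trans (CfsgLib.PLocalCore.relIndex_dvd_index_of_normal_right _ R))
    have hpg : IsPGroup 2 (T0.subgroupOf R) := hT0p.comap_subtype
    have h1 := Sylow.normalizer_sup_eq_top (hpg.toSylow hidx)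
    rw [show (hpg.toSylow hidx : Subgroup R) = T0.subgroupOf R from rfl, subgroupOf_map_subtype,
      inf_eq_left.2 (inf_le_right : T0 ≤ R)] at h1
    rw [eq_top_iff, ← h1]
    exact sup_le le_sup_left (hRle.trans (sup_le le_sup_right (le_normalizer.trans le_sup_left)))
  set X1 := (normalizer (T0 : Set ↥X)).map X.subtype with hX1
  have hX1X : X1 ≤ X := map_subtype_le _
  have hSX1 : S ≤ X1 := fun s hs => ⟨⟨s, hS.1 hs⟩, by
    refine mem_normalizer_fintype fun t ht => ⟨?_, Normal.conj_mem inferInstance t ht.2 _⟩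
    exact mul_mem (mul_mem (show (⟨s, hS.1 hs⟩ : ↥X) ∈ S.subgroupOf X from hs) ht.1)
      ((S.subgroupOf X).inv_mem (show (⟨s, hS.1 hs⟩ : ↥X) ∈ S.subgroupOf X from hs)), rfl⟩
  have hlt : Nat.card X1 < n := by
    rw [← hn, hX1, card_map_of_injective X.subtype_injective]
    refine CfsgLib.Solvable.card_lt_of_ne_top fun htop => hT0Q ?_
    exact CfsgLib.Solvable.le_pCore 2 (normalizer_eq_top_iff.1 htop) hT0p
  have hX1H : X1 ≤ H := ih _ hlt X1 rfl (hX.mono hX1X ((opIn_le_sylow hS).trans hSX1))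
    ⟨hSX1, hS.2.1, fun hd => hS.2.2 (hd.trans (by
      rw [← relIndex_mul_relIndex S X1 X hSX1 hX1X]
      exact dvd_mul_right _ _))⟩
  have htop : (⊤ : Subgroup ↥X) ≤ H.subgroupOf X := by
    rw [← hfr]
    exact sup_le (fun z hz => hX1H (mem_map_of_mem _ hz)) hKH
  exact htop (mem_top (⟨x, hx⟩ : ↥X))

theorem pPrimeCore_eq_bot {X : Type u} [Group X] [Finite X]
    (h : Cfsg.IsOfCharacteristicTwo X) : Cfsg.pPrimeCore 2 X = ⊥ := by
  haveI : Fact (Nat.Prime 2) := ⟨Nat.prime_two⟩
  rw [eq_bot_iff]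
  intro x hx
  refine mem_bot.2 (eq_one_of_charP_top h ?_ fun d hd => ?_)
  · exact (CfsgLib.Solvable.coprime_card_pPrimeCore 2).coprime_dvd_left
      (Subgroup.orderOf_dvd_natCard _ hx)
  · refine Subgroup.commute_of_normal_of_disjoint (Cfsg.pPrimeCore 2 X) (Cfsg.pCore 2 X)
      inferInstance inferInstance ?_ x d hx hd
    obtain ⟨e, he⟩ := (CfsgLib.Solvable.isPGroup_pCore (G := X) 2).exists_card_eq
    refine disjoint_of_coprime_natCard ?_
    rw [he]
    exact (CfsgLib.Solvable.coprime_card_pPrimeCore 2).pow_right e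

/-- The largest elementary abelian subgroups centralize the closure of `Ω₁Z` of the Sylow
2-subgroups. -/
theorem thompson_le_centralizer_zGen {X : Type u} [Group X] [Finite X] [Group.IsSolvable X]
    (h : Cfsg.IsOfCharacteristicTwo X) (hfree : ¬ Cfsg.Involves (Equiv.Perm (Fin 4)) X) :
    Cfsg.thompsonSubgroup 2 X ≤ centralizer (CfsgLib.PLocalCore.zGen 2 X : Set X) := by
  haveI : Fact (Nat.Prime 2) := ⟨Nat.prime_two⟩
  set V := CfsgLib.PLocalCore.zGen 2 X with hV
  have hVel : Cfsg.IsElementaryAbelian 2 V := CfsgLib.PLocalCore.zGen_elab_of_charP h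
  have hgen : V = ⨆ S : Sylow 2 X, V ⊓ centralizer ((S : Subgroup X) : Set X) := by
    refine le_antisymm ?_ (iSup_le fun S => inf_le_left)
    refine iSup_mono fun S => le_inf (le_iSup (fun S : Sylow 2 X =>
      CfsgLib.PLocalCore.zSylow 2 (S : Subgroup X)) S) ?_
    exact le_centralizer_iff.1 (CfsgLib.PLocalCore.le_centralizer_zSylow _)
  refine sSup_le fun A hA => ?_
  rw [← cidx_eq_one_iff]
  have h1 : cidx V A ^ 2 ≤ cidx A V := sq_le_normal hfree V hVel hgen A
    (fun b hb c hc => by rw [elab_commute hA.1 hb hc]; simp)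
    (fun b hb => by rw [hA.1.2 b hb]; exact one_mem _)
  have h2 : cidx A V ≤ A.relIndex V :=
    relIndex_le_of_le_left (elab_le_centralizer hA.1) index_ne_zero_of_finite
  have h3 : A.relIndex V ≤ cidx V A :=
    relIndex_le_cidx (maxIn_top (G := X) (p := 2) ▸ hA) hVel le_top
  have := cidx_pos V A
  nlinarith

/-- The Thompson factorization inside a local subgroup. -/
theorem le_sup_thompson {X S : Subgroup G} (hX : LocalGood X) (hS : IsSylowIn 2 S X) :
    X ≤ centralizer (CfsgLib.PLocalCore.zSylow 2 S : Set G) ⊔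
      normalizer (Cfsg.thompsonSubgroupOf 2 S : Set G) := by
  haveI : Fact (Nat.Prime 2) := ⟨Nat.prime_two⟩
  haveI := hX.sol
  have hfac := (CfsgLib.PLocalCore.isThompsonFactorizable_iff_le_centralizer
    (pPrimeCore_eq_bot hX.char2)).2 (thompson_le_centralizer_zGen hX.char2 hX.free)
  set P : Sylow 2 X := (hS.2.1.comap_subtype (K := X)).toSylow hS.2.2
  have hPS : (P : Subgroup ↥X).map X.subtype = S := map_subgroupOf_eq_of_le hS.1
  intro g hg
  obtain ⟨x, hx, c, hc, m, hm, he⟩ := hfac P ⟨g, hg⟩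
  rw [pPrimeCore_eq_bot hX.char2, mem_bot] at hx
  rw [hx, one_mul] at he
  rw [show g = (c : G) * (m : G) from congrArg Subtype.val he]
  refine mul_mem (mem_sup_left ?_) (mem_sup_right ?_)
  · have h1 : (CfsgLib.PLocalCore.zSylow 2 (P : Subgroup ↥X)).map X.subtype =
        CfsgLib.PLocalCore.zSylow 2 S := by
      rw [CfsgLib.PLocalCore.zSylow, CfsgLib.PLocalCore.zSylow,
        map_omegaOne _ X.subtype_injective,
        CfsgLib.StableClosure.map_inf_centralizer _ X.subtype_injective, hPS]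
    rw [← h1]
    refine mem_centralizer_iff.2 ?_
    rintro _ ⟨z, hz, rfl⟩
    exact congrArg Subtype.val (mem_centralizer_iff.1 hc z hz)
  · have h1 : (Cfsg.thompsonSubgroupOf 2 (P : Subgroup ↥X)).map X.subtype =
        Cfsg.thompsonSubgroupOf 2 S := by
      rw [thompsonSubgroupOf_eq, thompsonSubgroupOf_eq, (gc_map_comap X.subtype).l_sSup]
      refine le_antisymm (iSup₂_le fun A hA => le_sSup ⟨?_, elab_map _ hA.2.1, fun D hD hD' => ?_⟩)
        (sSup_le fun A hA => ?_)
      · exact (map_mono hA.1).trans hPS.le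
      · rw [card_map_of_injective X.subtype_injective,
          ← Nat.card_congr (subgroupOfEquivOfLe (hD.trans hS.1)).toEquiv]
        exact hA.2.2 _ (comap_mono hD) (elab_subgroupOf hD' X)
      · refine le_iSup₂_of_le (A.subgroupOf X)
          ⟨comap_mono hA.1, elab_subgroupOf hA.2.1 X, fun D hD hD' => ?_⟩
          (map_subgroupOf_eq_of_le (hA.1.trans hS.1)).ge
        rw [Nat.card_congr (subgroupOfEquivOfLe (hA.1.trans hS.1)).toEquiv,
          ← card_map_of_injective X.subtype_injective (K := D)]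
        exact hA.2.2 _ ((map_mono hD).trans hPS.le) (elab_map _ hD')
    rw [← h1]
    exact le_normalizer_map X.subtype ⟨m, hm, rfl⟩

end CfsgLib.PushUpTwo
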