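import Cfsg.Agent.PushUpTwo.Local
import Cfsg.Prelude.Def_CaseTheorems
import Cfsg.Prelude.Def_Involutions

/-!
All 2-local subgroups solvable, of characteristic 2 and without `S₄`-sections: the maximal 2-local
subgroups are strongly embedded.
-/

set_option autoImplicit false
set_option linter.style.haveILetI false

namespace CfsgLib.PushUpTwo

open Subgroup CfsgLib.Functor CfsgLib.Thompson CfsgLib.PLocalCore
open scoped CfsgLib.Functor

universe u

variable {G : Type u} [Group G] [Finite G]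

/-- Every 2-local subgroup is solvable, of characteristic 2 and without `S₄`-sections. -/
def AllGood (G : Type u) [Group G] : Prop :=
  ∀ M : Subgroup G, Cfsg.IsTwoLocal M → LocalGood M

theorem zSylow_sq {S : Subgroup G} {x : G} (hx : x ∈ zSylow 2 S) : x ^ 2 = 1 :=
  (elab_omegaOne (H := S ⊓ centralizer (S : Set G))
    fun _ ha _ hb => (mem_centralizer_iff.1 ha.2 _ hb.1).symm).2 x hx

theorem zSylow_ne_bot {S : Subgroup G} (hS : IsPGroup 2 S) (hS1 : S ≠ ⊥) : zSylow 2 S ≠ ⊥ := by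
  haveI : Fact (Nat.Prime 2) := ⟨Nat.prime_two⟩
  haveI := (nontrivial_iff_ne_bot S).2 hS1
  haveI : Nontrivial (Subgroup.center S) := hS.center_nontrivial
  obtain ⟨e, he, hce⟩ := (hS.to_subgroup (Subgroup.center S)).nontrivial_iff_card.1 inferInstance
  obtain ⟨z, hz⟩ := exists_prime_orderOf_dvd_card' (G := Subgroup.center S) 2
    (hce ▸ dvd_pow_self 2 (by omega))
  intro hbot
  have hmem : ((z : S) : G) ∈ zSylow 2 S := by
    refine mem_omegaOne ⟨(z : S).2, mem_centralizer_iff.2 fun s hs => ?_⟩ ?_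
    · exact congrArg Subtype.val (mem_center_iff.1 z.2 ⟨s, hs⟩)
    · have : z ^ 2 = 1 := hz ▸ pow_orderOf_eq_one z
      exact congrArg (fun u : Subgroup.center S => ((u : S) : G)) this
  rw [hbot, mem_bot] at hmem
  have : z = 1 := Subtype.ext (Subtype.ext hmem)
  rw [this, orderOf_one] at hz
  omega

theorem normalizer_zSylow_ge (T : Subgroup G) :
    normalizer (T : Set G) ≤ normalizer (zSylow 2 T : Set G) := fun g hg => by
  rw [mem_normalizer_iff_cj, map_zSylow, mem_normalizer_iff_cj.1 hg]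

theorem isSylowIn_of_sylow (S : Sylow 2 G) {X : Subgroup G} (hSX : (S : Subgroup G) ≤ X) :
    IsSylowIn 2 (S : Subgroup G) X :=
  haveI : Fact (Nat.Prime 2) := ⟨Nat.prime_two⟩
  ⟨hSX, S.2, fun h => S.not_dvd_index' Subgroup.index_ne_zero_of_finite
    (h.trans (relIndex_dvd_index_of_le hSX))⟩

theorem cidx_subgroupOf {X V B : Subgroup G} (hV : V ≤ X) (hB : B ≤ X) :
    (centralizer (V.subgroupOf X : Set ↥X)).relIndex (B.subgroupOf X) = cidx V B := by
  have e : centralizer (V.subgroupOf X : Set ↥X) = (centralizer (V : Set G)).subgroupOf X := by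
    ext x
    simp only [mem_centralizer_iff, mem_subgroupOf, SetLike.mem_coe]
    exact ⟨fun h v hv => congrArg Subtype.val (h ⟨v, hV hv⟩ hv),
      fun h v hv => Subtype.ext (h v hv)⟩
  rw [e, relIndex_subgroupOf hB, cidx]

/-- The subgroup generated by the conjugates of `Ω₁Z(S)` under `N(J(S))`. -/
def pushed (S : Subgroup G) : Subgroup G :=
  ⨆ n : normalizer (Cfsg.thompsonSubgroupOf 2 S : Set G), (n : G) ⋆ zSylow 2 S

theorem normalizer_le_normalizer_pushed (S : Subgroup G) :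
    normalizer (Cfsg.thompsonSubgroupOf 2 S : Set G) ≤ normalizer (pushed S : Set G) := by
  intro g hg
  refine mem_normalizer_iff_cj.2 (CfsgLib.Solvable.eq_of_le_of_card_le ?_ (card_cj _ _).ge)
  rw [pushed, Subgroup.map_iSup]
  refine iSup_le fun n => le_iSup_of_le ⟨g * n, mul_mem hg n.2⟩ ?_
  rw [cj_cj]

theorem pushed_spec (h : AllGood G) (S : Sylow 2 G) (hS1 : (S : Subgroup G) ≠ ⊥) :
    pushed (S : Subgroup G) ≠ ⊥ ∧ IsPGroup 2 (pushed (S : Subgroup G)) ∧
      Pushed (S : Subgroup G) (pushed (S : Subgroup G)) := by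
  haveI : Fact (Nat.Prime 2) := ⟨Nat.prime_two⟩
  set Y := pushed (S : Subgroup G) with hY
  set J := Cfsg.thompsonSubgroupOf 2 (S : Subgroup G) with hJ
  set Z := zSylow 2 (S : Subgroup G) with hZdef
  have hSN : (S : Subgroup G) ≤ normalizer (J : Set G) :=
    le_normalizer.trans (normalizer_le_normalizer_thompsonSubgroupOf _)
  have hZY : Z ≤ Y := le_iSup_of_le ⟨1, one_mem _⟩ (by rw [cj_one])
  have hY1 : Y ≠ ⊥ := fun e => zSylow_ne_bot S.2 hS1 (le_bot_iff.1 (hZY.trans e.le))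
  have hYA : ∀ A ∈ maxIn 2 (S : Subgroup G), Y ≤ A := by
    intro A hA
    refine iSup_le fun n => ?_
    rw [cj_le_iff']
    have hle : (n : G)⁻¹ ⋆ A ≤ (S : Subgroup G) := by
      refine (cj_mono _ ((le_sSup hA).trans (thompsonSubgroupOf_eq _).ge)).trans ?_
      rw [mem_normalizer_iff_cj.1 (inv_mem n.2)]
      exact thompsonSubgroupOf_le _
    intro z hz
    have hA' : Cfsg.IsElementaryAbelian 2 ((n : G)⁻¹ ⋆ A) := elab_map _ hA.2.1
    have hzS : z ∈ (S : Subgroup G) ⊓ centralizer ((S : Subgroup G) : Set G) := omegaOne_le _ hz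
    have hsup := elab_sup (elab_zpowers (zSylow_sq hz)) hA'
      (zpowers_le.2 (mem_centralizer_iff.2 fun a ha => mem_centralizer_iff.1 hzS.2 a (hle ha)))
    have hmax := hA.2.2 _ (sup_le (zpowers_le.2 hzS.1) hle) hsup
    rw [← card_cj (n : G)⁻¹ A] at hmax
    rw [CfsgLib.Solvable.eq_of_le_of_card_le (le_sup_right (a := zpowers z)) hmax]
    exact mem_sup_left (mem_zpowers z)
  obtain ⟨A0, hA0⟩ := exists_maxIn (p := 2) (S : Subgroup G)
  have hYel : Cfsg.IsElementaryAbelian 2 Y := elab_mono hA0.2.1 (hYA A0 hA0)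
  have hYS : Y ≤ (S : Subgroup G) := (hYA A0 hA0).trans hA0.1
  refine ⟨hY1, elab_isPGroup hYel,
    ⟨S.2, hYel, hYS, hSN.trans (normalizer_le_normalizer_pushed _), hYA, fun B hB hBc hBs => ?_⟩⟩
  set X := normalizer (Y : Set G) with hX
  have hXg : LocalGood X := h X ⟨Y, elab_isPGroup hYel, hY1, rfl⟩
  haveI := hXg.sol
  haveI : (Y.subgroupOf X).Normal :=
    (normal_subgroupOf_iff_le_normalizer le_normalizer).2 le_rfl
  have hSX : (S : Subgroup G) ≤ X := hSN.trans (normalizer_le_normalizer_pushed _)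
  have hgen : Y.subgroupOf X =
      ⨆ P : Sylow 2 X, Y.subgroupOf X ⊓ centralizer ((P : Subgroup ↥X) : Set ↥X) := by
    refine le_antisymm ?_ (iSup_le fun P => inf_le_left)
    suffices hle : Y ≤ (⨆ P : Sylow 2 X,
        Y.subgroupOf X ⊓ centralizer ((P : Subgroup ↥X) : Set ↥X)).map X.subtype by
      intro x hx
      obtain ⟨x', hx', he⟩ := hle hx
      rwa [← Subtype.ext (show (x' : G) = x from he)]
    refine iSup_le fun n => ?_
    have hnX : (n : G) ∈ X := normalizer_le_normalizer_pushed _ n.2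
    intro v hv
    have hvY : v ∈ Y := le_iSup (fun n : normalizer (J : Set G) => (n : G) ⋆ Z) n hv
    refine ⟨⟨v, le_normalizer hvY⟩, mem_iSup_of_mem
      ((⟨n, hnX⟩ : ↥X) • (S.subtype hSX)) ⟨hvY, mem_centralizer_iff.2 ?_⟩, rfl⟩
    intro s hs
    rw [Sylow.coe_subgroup_smul] at hs
    obtain ⟨s0, hs0, rfl⟩ := hs
    refine Subtype.ext ?_
    show (n : G) * (s0 : G) * (n : G)⁻¹ * v = v * ((n : G) * (s0 : G) * (n : G)⁻¹)
    obtain ⟨z, hz, rfl⟩ := hv
    show (n : G) * (s0 : G) * (n : G)⁻¹ * ((n : G) * z * (n : G)⁻¹) = _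
    have hc : Commute z (s0 : G) := mem_centralizer_iff.1
      (le_centralizer_zSylow (p := 2) (S : Subgroup G) hs0) z hz
    exact ((hc.symm).map (MulAut.conj (n : G)).toMonoidHom).eq
  have hBX : B ≤ X := hB.trans hSX
  have key := sq_le_normal hXg.free (Y.subgroupOf X) (elab_subgroupOf hYel X) hgen (B.subgroupOf X)
    (fun b hb c hc => mem_centralizer_iff.2 fun v hv =>
      Subtype.ext (mem_centralizer_iff.1 (hBc b hb c hc) v hv))
    (fun b hb => mem_centralizer_iff.2 fun v hv =>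
      Subtype.ext (mem_centralizer_iff.1 (hBs b hb) v hv))
  rwa [cidx_subgroupOf le_normalizer hBX, cidx_subgroupOf hBX le_normalizer] at key

theorem exists_bigger {T P : Subgroup G} (hP : IsPGroup 2 P) (hlt : T < P) :
    T < P ⊓ normalizer (T : Set G) := by
  haveI : Fact (Nat.Prime 2) := ⟨Nat.prime_two⟩
  exact lt_inf_normalizer hP hlt

/-- The normalizer of `pushed S` contains every 2-local subgroup meeting it in even order. -/
theorem le_normalizer_pushed (h : AllGood G) (S : Sylow 2 G) (hS1 : (S : Subgroup G) ≠ ⊥) :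
    ∀ (T : Subgroup G), IsPGroup 2 T → T ≠ ⊥ →
      T ≤ normalizer (pushed (S : Subgroup G) : Set G) →
      ∀ N : Subgroup G, Cfsg.IsTwoLocal N → T ≤ N →
        N ≤ normalizer (pushed (S : Subgroup G) : Set G) := by
  haveI : Fact (Nat.Prime 2) := ⟨Nat.prime_two⟩
  obtain ⟨hY1, hYp, hP⟩ := pushed_spec h S hS1
  set M0 := normalizer (pushed (S : Subgroup G) : Set G) with hM0
  have hSM : (S : Subgroup G) ≤ M0 := hP.hSW
  have hJM : normalizer (Cfsg.thompsonSubgroupOf 2 (S : Subgroup G) : Set G) ≤ M0 :=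
    normalizer_le_normalizer_pushed _
  -- locals containing `S`
  have hlocS : ∀ N : Subgroup G, Cfsg.IsTwoLocal N → (S : Subgroup G) ≤ N → N ≤ M0 := by
    intro N hN hSN
    have hgen : ∀ X : Subgroup G, Cfsg.IsTwoLocal X → (S : Subgroup G) ≤ X → X ≤ M0 ⊔
        normalizer (Cfsg.thompsonSubgroupOf 2 (S : Subgroup G) : Set G) := fun X hX hSX =>
      le_sup_normalizers hP _ X rfl (h X hX) (isSylowIn_of_sylow S hSX)
    exact (hgen N hN hSN).trans (sup_le le_rfl hJM)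
  suffices H : ∀ (d : ℕ) (T : Subgroup G), Nat.card G - Nat.card T = d → IsPGroup 2 T → T ≠ ⊥ →
      T ≤ M0 → ∀ N : Subgroup G, Cfsg.IsTwoLocal N → T ≤ N → N ≤ M0 from
    fun T => H _ T rfl
  intro d
  induction d using Nat.strong_induction_on with | _ d ih => ?_
  intro T hd hT hT1 hTM N hN hTN
  have big : ∀ T' : Subgroup G, IsPGroup 2 T' → T < T' → T' ≤ M0 → ∀ N : Subgroup G,
      Cfsg.IsTwoLocal N → T' ≤ N → N ≤ M0 := fun T' hT' hlt hT'M N' hN' hT'N =>
    ih _ (by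
      have := CfsgLib.Solvable.card_lt_of_lt hlt
      have := card_le_card_group T'
      omega) T' rfl hT' (fun e => hT1 (le_bot_iff.1 (e ▸ hlt.le))) hT'M N' hN' hT'N
  -- a Sylow 2-subgroup of `M0` over `T`
  set SM : Sylow 2 M0 := S.subtype hSM
  obtain ⟨P, hP'⟩ := (hT.comap_subtype (K := M0)).exists_le_sylow
  obtain ⟨m, hm⟩ := MulAction.exists_smul_eq M0 SM P
  have hmS : T ≤ (m : G) ⋆ (S : Subgroup G) := fun t ht => by
    have h1 : (⟨t, hTM ht⟩ : M0) ∈ (P : Subgroup M0) := hP' ht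
    rw [← hm, Sylow.coe_subgroup_smul] at h1
    obtain ⟨s, hs, he⟩ := h1
    exact ⟨s, hs, congrArg Subtype.val he⟩
  have hmSp : IsPGroup 2 ↥((m : G) ⋆ (S : Subgroup G)) := S.2.map _
  have hmM : (m : G) ⋆ (S : Subgroup G) ≤ M0 :=
    cj_le_iff.2 fun s hs => mul_mem (mul_mem m.2 (hSM hs)) (inv_mem m.2)
  rcases hmS.eq_or_lt with heq | hlt
  · obtain ⟨R, hR, hR1, hNR⟩ := hN
    have hloc' : Cfsg.IsTwoLocal ((m : G)⁻¹ ⋆ N) :=
      ⟨(m : G)⁻¹ ⋆ R, hR.map _, fun e => hR1 (cj_eq_bot_iff.1 e), by rw [hNR, cj_normalizer]⟩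
    have hSN : (S : Subgroup G) ≤ (m : G)⁻¹ ⋆ N := by
      rw [← cj_inv_cj (m : G) (S : Subgroup G), ← heq]
      exact cj_mono _ hTN
    have h1 := hlocS _ hloc' hSN
    rw [cj_le_iff', inv_inv, cj_eq_self_of_mem m.2] at h1
    exact h1
  -- `T` is not a Sylow 2-subgroup of `G`
  set T' := ((m : G) ⋆ (S : Subgroup G)) ⊓ normalizer (T : Set G) with hT'
  have hT'p : IsPGroup 2 T' := hmSp.to_le inf_le_left
  have hT'lt : T < T' := exists_bigger hmSp hlt
  have hT'M : T' ≤ M0 := inf_le_left.trans hmM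
  have hNT : normalizer (T : Set G) ≤ M0 :=
    big T' hT'p hT'lt hT'M _ ⟨T, hT, hT1, rfl⟩ inf_le_right
  by_cases hmore : ∃ R : Subgroup G, IsPGroup 2 R ∧ T < R ∧ R ≤ M0 ∧ R ≤ N
  · obtain ⟨R, hRp, hlt', hRM, hRN⟩ := hmore
    exact big R hRp hlt' hRM N hN hRN
  have hsyl : IsSylowIn 2 T N := by
    refine ⟨hTN, hT, fun hdvd => ?_⟩
    obtain ⟨R, hR⟩ := (hT.comap_subtype (K := N)).exists_le_sylow
    set R' := (R : Subgroup N).map N.subtype with hR'
    have hTR : T ≤ R' := by rw [← map_subgroupOf_eq_of_le hTN]; exact map_mono hR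
    rcases hTR.eq_or_lt with he | hlt'
    · refine R.not_dvd_index' Subgroup.index_ne_zero_of_finite ?_
      rw [he, relIndex, subgroupOf, hR', comap_map_eq_self_of_injective N.subtype_injective] at hdvd
      exact hdvd
    · exact hmore ⟨R' ⊓ normalizer (T : Set G), (R.2.map _).to_le inf_le_left,
        exists_bigger (R.2.map _) hlt', inf_le_right.trans hNT, inf_le_left.trans (map_subtype_le _)⟩
  refine (le_sup_thompson (h N hN) hsyl).trans (sup_le ?_ ?_)
  · refine le_trans (centralizer_le_normalizer _) (big T' hT'p hT'lt hT'M _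
      ⟨zSylow 2 T, hT.to_le ((omegaOne_le _).trans inf_le_left), zSylow_ne_bot hT hT1, rfl⟩
      (inf_le_right.trans (normalizer_zSylow_ge T)))
  · refine big T' hT'p hT'lt hT'M _
      ⟨Cfsg.thompsonSubgroupOf 2 T, hT.to_le (thompsonSubgroupOf_le T), fun e => ?_, rfl⟩
      (inf_le_right.trans (normalizer_le_normalizer_thompsonSubgroupOf T))
    obtain ⟨A, hA⟩ := exists_maxIn (p := 2) T
    have hA1 : A = ⊥ := le_bot_iff.1 (by
      rw [← e, thompsonSubgroupOf_eq]; exact le_sSup hA)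
    refine zSylow_ne_bot hT hT1 (eq_bot_iff.2 fun z hz => ?_)
    have hzT : z ∈ T := ((omegaOne_le _) hz).1
    have h1 := hA.2.2 (zpowers z) (zpowers_le.2 hzT) (elab_zpowers (zSylow_sq hz))
    rw [hA1, card_bot] at h1
    have h2 : zpowers z = ⊥ := Subgroup.card_eq_one.1 (le_antisymm h1 Nat.card_pos)
    rwa [zpowers_eq_bot, ← mem_bot] at h2

theorem isStronglyEmbedded_of_allGood (heven : Even (Nat.card G)) (hO : Cfsg.pCore 2 G = ⊥)
    (h : AllGood G) (M : Subgroup G) (hM : Cfsg.IsMaximalTwoLocal M) :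
    Cfsg.IsStronglyEmbedded M := by
  haveI : Fact (Nat.Prime 2) := ⟨Nat.prime_two⟩
  obtain ⟨⟨T, hT, hT1, rfl⟩, hmax⟩ := hM
  obtain ⟨S, hTS⟩ := hT.exists_le_sylow
  have hS1 : (S : Subgroup G) ≠ ⊥ := fun e => hT1 (le_bot_iff.1 (hTS.trans e.le))
  obtain ⟨hY1, hYp, hP⟩ := pushed_spec h S hS1
  set M0 := normalizer (pushed (S : Subgroup G) : Set G) with hM0
  have hloc0 : Cfsg.IsTwoLocal M0 := ⟨_, hYp, hY1, rfl⟩
  have hclaim := le_normalizer_pushed h S hS1
  have hle : normalizer (T : Set G) ≤ M0 :=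
    hclaim T hT hT1 (hTS.trans hP.hSW) _ ⟨T, hT, hT1, rfl⟩ le_normalizer
  rw [← hmax M0 hloc0 hle]
  have hne : M0 ≠ ⊤ := fun htop => hY1 (le_bot_iff.1
    (hO ▸ CfsgLib.Solvable.le_pCore 2 (normalizer_eq_top_iff.1 htop) hYp))
  refine ⟨hne, ?_, fun g hg => ?_⟩
  · rw [even_iff_two_dvd] at heven ⊢
    exact (S.dvd_card_of_dvd_card heven).trans (card_dvd_of_le hP.hSW)
  rw [← Nat.not_even_iff_odd, even_iff_two_dvd]
  intro hd
  obtain ⟨x, hx⟩ := exists_prime_orderOf_dvd_card' 2 hd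
  rw [← Subgroup.orderOf_coe] at hx
  have hzp : IsPGroup 2 (zpowers (x : G)) :=
    IsPGroup.of_card (n := 1) (by rw [Nat.card_zpowers, hx, pow_one])
  have hx1 : zpowers (x : G) ≠ ⊥ := by
    rw [Ne, zpowers_eq_bot]
    intro e
    rw [e, orderOf_one] at hx
    omega
  have hgM : g ⋆ M0 ≤ M0 := hclaim _ hzp hx1 (zpowers_le.2 x.2.1) _
    ⟨g ⋆ pushed (S : Subgroup G), hYp.map _, fun e => hY1 (cj_eq_bot_iff.1 e), by
      rw [hM0, cj_normalizer]⟩ (zpowers_le.2 x.2.2)
  have hgS : g ⋆ (S : Subgroup G) ≤ M0 := (cj_mono g hP.hSW).trans hgM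
  obtain ⟨P, hP'⟩ := ((S.2.map (MulAut.conj g).toMonoidHom).comap_subtype (K := M0)).exists_le_sylow
  obtain ⟨m, hm⟩ := MulAction.exists_smul_eq M0 (S.subtype hP.hSW) P
  have hmS : g ⋆ (S : Subgroup G) ≤ (m : G) ⋆ (S : Subgroup G) := fun t ht => by
    have h1 : (⟨t, hgS ht⟩ : M0) ∈ (P : Subgroup M0) := hP' ht
    rw [← hm, Sylow.coe_subgroup_smul] at h1
    obtain ⟨s, hs, he⟩ := h1
    exact ⟨s, hs, congrArg Subtype.val he⟩
  have heq := CfsgLib.Solvable.eq_of_le_of_card_le hmS (by rw [card_cj, card_cj])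
  have hn : (m : G)⁻¹ * g ∈ normalizer ((S : Subgroup G) : Set G) := by
    rw [mem_normalizer_iff_cj, ← cj_cj, heq, cj_inv_cj]
  have hNS : normalizer ((S : Subgroup G) : Set G) ≤ M0 :=
    hclaim S S.2 hS1 hP.hSW _ ⟨S, S.2, hS1, rfl⟩ le_normalizer
  have h1 := mul_mem m.2 (hNS hn)
  rw [mul_inv_cancel_left] at h1
  exact hg h1

end CfsgLib.PushUpTwo
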