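import Cfsg.Agent.PLocal.Core
import Cfsg.Agent.Functor.Sylow
import Mathlib.GroupTheory.Index

/-!
An element inverted by an element of an elementary abelian 2-subgroup and centralized by a
hyperplane modulo a normal 2-subgroup `Q` normalizes a normal elementary abelian subgroup `W` of
the Sylow 2-subgroup which has only small-offender-free automizers.
-/

set_option autoImplicit false
set_option linter.style.haveILetI false

namespace CfsgLib.PushUpTwo

open Subgroup CfsgLib.Functor CfsgLib.Thompson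
open scoped CfsgLib.Functor

universe u

variable {G : Type u} [Group G]

/-- `|B : C_B(V)|`. -/
noncomputable def cidx (V B : Subgroup G) : ℕ := (centralizer (V : Set G)).relIndex B

theorem cidx_cj (g : G) (V B : Subgroup G) : cidx (g ⋆ V) (g ⋆ B) = cidx V B := by
  rw [cidx, ← cj_centralizer, cj_relIndex, cidx]

theorem cidx_eq_one_iff {V B : Subgroup G} : cidx V B = 1 ↔ B ≤ centralizer (V : Set G) :=
  relIndex_eq_one

theorem cidx_pos [Finite G] (V B : Subgroup G) : 0 < cidx V B :=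
  Nat.pos_of_ne_zero index_ne_zero_of_finite

theorem relIndex_pos' [Finite G] (H K : Subgroup G) : 0 < H.relIndex K :=
  Nat.pos_of_ne_zero index_ne_zero_of_finite

theorem card_eq_relIndex_mul (H K : Subgroup G) :
    Nat.card K = H.relIndex K * Nat.card ↥(H ⊓ K) := by
  rw [← inf_relIndex_right, ← relIndex_bot_left, ← relIndex_bot_left, mul_comm]
  exact (relIndex_mul_relIndex ⊥ _ K bot_le inf_le_right).symm

theorem commute_of_sq_commute {x z : G} (hz : Odd (orderOf z)) (h : Commute (z ^ 2) x) :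
    Commute z x := by
  obtain ⟨j, hj⟩ := hz
  have e : z = (z ^ 2) ^ (j + 1) := by
    rw [← pow_mul, show 2 * (j + 1) = orderOf z + 1 by omega, pow_succ, pow_orderOf_eq_one, one_mul]
  rw [e]
  exact h.pow_left _

theorem relIndex_two_cases {H K : Subgroup G} (h : H.relIndex K = 2) {x z : G} (hx : x ∈ K)
    (hx' : x ∉ H) (hz : z ∈ K) : z ∈ H ∨ x * z ∈ H := by
  by_cases hzH : z ∈ H
  · exact Or.inl hzH
  · exact Or.inr ((mul_mem_iff_of_index_two h (a := (⟨x, hx⟩ : K)) (b := ⟨z, hz⟩)).2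
      ⟨fun h' => absurd h' hx', fun h' => absurd h' hzH⟩)

theorem elab_iSup {ι : Sort*} (L : ι → Subgroup G)
    (hL : ∀ i, Cfsg.IsElementaryAbelian 2 (L i))
    (hc : ∀ i j, L i ≤ centralizer (L j : Set G)) :
    Cfsg.IsElementaryAbelian 2 (⨆ i, L i) := by
  have hC : (⨆ i, L i) ≤ centralizer ((⨆ i, L i : Subgroup G) : Set G) :=
    iSup_le fun i => le_centralizer_iff.1 (iSup_le fun j => hc j i)
  refine ⟨⟨⟨fun u v => Subtype.ext (mem_centralizer_iff.1 (hC v.2) u u.2)⟩⟩, fun x hx => ?_⟩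
  suffices h : x ^ 2 = 1 ∧ x ∈ ⨆ i, L i from h.1
  induction hx using Subgroup.iSup_induction' with
  | hp i x hx => exact ⟨(hL i).2 x hx, mem_iSup_of_mem i hx⟩
  | h1 => exact ⟨one_pow 2, one_mem _⟩
  | hmul x y hx hy ihx ihy =>
    refine ⟨?_, mul_mem hx hy⟩
    rw [Commute.mul_pow (mem_centralizer_iff.1 (hC hy) x hx), ihx.1, ihy.1, one_mul]

/-- The largest elementary abelian subgroups compete with every elementary abelian subgroup. -/
theorem relIndex_le_cidx [Finite G] {S A U : Subgroup G} (hA : A ∈ maxIn 2 S)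
    (hU : Cfsg.IsElementaryAbelian 2 U) (hUS : U ≤ S) : A.relIndex U ≤ cidx U A := by
  set A0 := A ⊓ centralizer (U : Set G) with hA0
  have hc : A0 ≤ centralizer (U : Set G) := inf_le_right
  have hn : A0 ≤ normalizer (U : Set G) := by
    intro x hx
    refine mem_normalizer_fintype fun z hz => ?_
    rw [← mem_centralizer_iff.1 (hc hx) z hz, mul_inv_cancel_right]
    exact hz
  have hle := hA.2.2 (A0 ⊔ U) (sup_le (inf_le_left.trans hA.1) hUS)
    (elab_sup (elab_mono hA.2.1 inf_le_left) hU hc)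
  have hm := CfsgLib.Solvable.card_sup_mul_card_inf hn
  have e0 : A0 ⊓ U = A ⊓ U :=
    le_antisymm (inf_le_inf_right _ inf_le_left) fun x hx =>
      ⟨⟨hx.1, elab_le_centralizer hU hx.2⟩, hx.2⟩
  rw [e0, card_eq_relIndex_mul A U, ← mul_assoc] at hm
  have hm' : Nat.card ↥(A0 ⊔ U) = Nat.card A0 * A.relIndex U :=
    Nat.eq_of_mul_eq_mul_right Nat.card_pos hm
  rw [hm', card_eq_relIndex_mul (centralizer (U : Set G)) A,
    inf_comm (centralizer (U : Set G)) A, ← hA0, mul_comm (Nat.card A0)] at hle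
  exact Nat.le_of_mul_le_mul_right hle Nat.card_pos

/-- An element of order prime to 6 fixing a subgroup of index at most 4 of an elementary abelian
2-group centralizes it. -/
theorem centralizes_of_index [Finite G] {E U : Subgroup G} (hE : Cfsg.IsElementaryAbelian 2 E)
    (hUE : U ≤ E) {y : G} (hy2 : Odd (orderOf y)) (hy3 : ¬ 3 ∣ orderOf y)
    (hyE : y ∈ normalizer (E : Set G)) (hU : ∀ w ∈ U, Commute y w) (hidx : U.relIndex E ≤ 4) :
    ∀ w ∈ E, Commute y w := by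
  classical
  haveI := hE.1
  set U' := U.subgroupOf E with hU'
  let σ : E → E := fun w => ⟨y * w * y⁻¹, (mem_normalizer_iff.1 hyE w).1 w.2⟩
  let τ : (E ⧸ U') → (E ⧸ U') := Quotient.map' σ fun a b hab => by
    rw [QuotientGroup.leftRel_apply] at hab ⊢
    rw [hU', mem_subgroupOf] at hab ⊢
    show (y * (a : G) * y⁻¹)⁻¹ * (y * b * y⁻¹) ∈ U
    have h1 : (a : G)⁻¹ * b ∈ U := hab
    rw [show (y * (a : G) * y⁻¹)⁻¹ * (y * b * y⁻¹) = y * ((a : G)⁻¹ * b) * y⁻¹ by group,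
      (hU _ h1).eq, mul_inv_cancel_right]
    exact h1
  set n := orderOf y with hn
  have hiter : ∀ (k : ℕ) (w : E), ((σ^[k] w : E) : G) = y ^ k * w * (y ^ k)⁻¹ := by
    intro k w
    induction k with
    | zero => simp
    | succ k ih =>
      rw [Function.iterate_succ_apply']
      show y * ((σ^[k] w : E) : G) * y⁻¹ = _
      rw [ih, pow_succ']
      group
  intro w hw
  have hτ : τ^[n] (QuotientGroup.mk (⟨w, hw⟩ : E)) = QuotientGroup.mk ⟨w, hw⟩ := by
    have : ∀ k (v : E), τ^[k] (QuotientGroup.mk v) = QuotientGroup.mk (σ^[k] v) := by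
      intro k v
      induction k with
      | zero => rfl
      | succ k ih => rw [Function.iterate_succ_apply', Function.iterate_succ_apply', ih]; rfl
    rw [this]
    exact congrArg _ (Subtype.ext (by rw [hiter, hn, pow_orderOf_eq_one]; simp))
  set m := Function.minimalPeriod τ (QuotientGroup.mk (⟨w, hw⟩ : E)) with hmdef
  have hd : m ∣ n := Function.IsPeriodicPt.minimalPeriod_dvd hτ
  have hm4 : m ≤ 4 := by
    have h2 := Nat.card_le_card_of_injective
      (fun i : Fin m => τ^[(i : ℕ)] (QuotientGroup.mk (⟨w, hw⟩ : E))) fun i j hij =>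
        Fin.ext (Function.iterate_injOn_Iio_minimalPeriod (f := τ) i.2 j.2 hij)
    rw [Nat.card_fin] at h2
    exact h2.trans hidx
  have h1 : m = 1 := by
    have hm2 : ¬ 2 ∣ m := fun h => by
      have := h.trans hd
      obtain ⟨j, hj⟩ := hy2
      omega
    have hm3 : ¬ 3 ∣ m := fun h => hy3 (h.trans hd)
    omega
  have h5 : (σ ⟨w, hw⟩)⁻¹ * ⟨w, hw⟩ ∈ U' :=
    QuotientGroup.eq.1 (Function.minimalPeriod_eq_one_iff_isFixedPt.1 h1)
  rw [hU', mem_subgroupOf] at h5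
  set u := (y * w * y⁻¹)⁻¹ * w with hu
  have hu' : u ∈ U := h5
  have hyw : y * w * y⁻¹ = w * u⁻¹ := by rw [hu]; group
  have hpw : ∀ k : ℕ, y ^ k * w * (y ^ k)⁻¹ = w * (u⁻¹) ^ k := by
    intro k
    induction k with
    | zero => simp
    | succ k ih =>
      calc y ^ (k + 1) * w * (y ^ (k + 1))⁻¹ = y * (y ^ k * w * (y ^ k)⁻¹) * y⁻¹ := by
            rw [pow_succ']; group
        _ = (y * w * y⁻¹) * (y * (u⁻¹) ^ k * y⁻¹) := by rw [ih]; group
        _ = w * (u⁻¹) ^ (k + 1) := by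
            rw [((hU u hu').inv_right.pow_right k).eq, mul_inv_cancel_right, hyw, pow_succ',
              mul_assoc]
  have h6 := hpw n
  rw [hn, pow_orderOf_eq_one, one_mul, inv_one, mul_one, eq_comm, mul_eq_left] at h6
  have h7 : (u⁻¹) ^ 2 = 1 := hE.2 _ (hUE (inv_mem hu'))
  have h8 : u⁻¹ = 1 := orderOf_eq_one_iff.1 (Nat.eq_one_of_dvd_coprimes
    (Nat.coprime_two_right.2 hy2) (orderOf_dvd_of_pow_eq_one h6) (orderOf_dvd_of_pow_eq_one h7))
  rw [h8, mul_one] at hyw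
  exact mul_inv_eq_iff_eq_mul.1 hyw

/-- The situation studied here. -/
structure Rot (S Q W A A1 : Subgroup G) (a y : G) : Prop where
  hS : IsPGroup 2 S
  hQS : Q ≤ S
  hSQ : S ≤ normalizer (Q : Set G)
  hyQ : y ∈ normalizer (Q : Set G)
  hW : Cfsg.IsElementaryAbelian 2 W
  hWS : W ≤ S
  hSW : S ≤ normalizer (W : Set G)
  hA : Cfsg.IsElementaryAbelian 2 A
  hAS : A ≤ S
  hWA : W ≤ A
  haA : a ∈ A
  haA1 : a ∉ A1
  hA1 : A1 ≤ A
  idx : A1.relIndex A = 2
  inv : a * y * a⁻¹ = y⁻¹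
  odd : Odd (orderOf y)
  comm : ∀ t ∈ A1, y * t * y⁻¹ * t⁻¹ ∈ Q
  charp : ∀ k : ℤ, (∀ q ∈ Q, Commute (y ^ k) q) → y ^ k = 1
  off : ∀ B ≤ S, (∀ b ∈ B, ∀ c ∈ B, b * c * b⁻¹ * c⁻¹ ∈ centralizer (W : Set G)) →
    (∀ b ∈ B, b ^ 2 ∈ centralizer (W : Set G)) → cidx W B ^ 2 ≤ cidx B W

namespace Rot

variable {S Q W A A1 : Subgroup G} {a y : G} (h : Rot S Q W A A1 a y)
include h

theorem off_elab {B : Subgroup G} (hBS : B ≤ S) (hB : Cfsg.IsElementaryAbelian 2 B) :
    cidx W B ^ 2 ≤ cidx B W :=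
  h.off B hBS
    (fun b hb c hc => by rw [elab_commute hB hb hc]; simp)
    (fun b hb => by rw [hB.2 b hb]; exact one_mem _)

theorem a_inv : a⁻¹ = a := inv_eq_of_mul_eq_one_right (by rw [← sq]; exact h.hA.2 a h.haA)

theorem a_commute {x : G} (hx : x ∈ A) : Commute a x := elab_commute h.hA h.haA hx

theorem zpow_inv (k : ℤ) : a * y ^ k * a⁻¹ = y ^ (-k) := by
  rw [← conj_zpow, h.inv, inv_zpow, zpow_neg]

theorem zpow_comm (k : ℤ) {t : G} (ht : t ∈ A1) : y ^ k * t * (y ^ k)⁻¹ * t⁻¹ ∈ Q := by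
  let C : Subgroup G :=
    { carrier := {g | g ∈ normalizer (Q : Set G) ∧ g * t * g⁻¹ * t⁻¹ ∈ Q}
      one_mem' := ⟨one_mem _, by simp⟩
      mul_mem' := by
        rintro g g' ⟨hg, hgt⟩ ⟨hg', hgt'⟩
        refine ⟨mul_mem hg hg', ?_⟩
        rw [show g * g' * t * (g * g')⁻¹ * t⁻¹ =
          (g * (g' * t * g'⁻¹ * t⁻¹) * g⁻¹) * (g * t * g⁻¹ * t⁻¹) by group]
        exact mul_mem ((mem_normalizer_iff.1 hg _).1 hgt') hgt
      inv_mem' := by
        rintro g ⟨hg, hgt⟩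
        refine ⟨inv_mem hg, ?_⟩
        rw [show g⁻¹ * t * g⁻¹⁻¹ * t⁻¹ = g⁻¹ * (g * t * g⁻¹ * t⁻¹)⁻¹ * g⁻¹⁻¹ by group]
        exact (mem_normalizer_iff.1 (inv_mem hg) _).1 (inv_mem hgt) }
  exact (zpow_mem (show y ∈ C from ⟨h.hyQ, h.comm t ht⟩) k).2

theorem conj_mem_sylow (k : ℤ) {t : G} (ht : t ∈ A1) : y ^ k * t * (y ^ k)⁻¹ ∈ S := by
  have := mul_mem (h.hQS (h.zpow_comm k ht)) (h.hAS (h.hA1 ht))
  rwa [inv_mul_cancel_right] at this

theorem commute_of_fixed (k : ℤ) {x : G} (h1 : Commute a x)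
    (h2 : Commute (y ^ k * a * (y ^ k)⁻¹) x) [Finite G] : Commute (y ^ k) x := by
  refine commute_of_sq_commute (h.odd.of_dvd_nat
    (orderOf_dvd_of_mem_zpowers (zpow_mem (mem_zpowers y) k))) ?_
  have e : (y ^ k) ^ 2 = (y ^ k * a * (y ^ k)⁻¹) * a⁻¹ := by
    calc (y ^ k) ^ 2 = y ^ k * (y ^ (-k))⁻¹ := by rw [zpow_neg, inv_inv, sq]
      _ = y ^ k * (a * y ^ k * a⁻¹)⁻¹ := by rw [h.zpow_inv]
      _ = _ := by group
  rw [e]
  exact h2.mul_left h1.inv_left

theorem pow (k : ℤ) [Finite G] : Rot S Q W A A1 a (y ^ k) where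
  hS := h.hS
  hQS := h.hQS
  hSQ := h.hSQ
  hyQ := zpow_mem h.hyQ k
  hW := h.hW
  hWS := h.hWS
  hSW := h.hSW
  hA := h.hA
  hAS := h.hAS
  hWA := h.hWA
  haA := h.haA
  haA1 := h.haA1
  hA1 := h.hA1
  idx := h.idx
  inv := by rw [h.zpow_inv, zpow_neg]
  odd := h.odd.of_dvd_nat (orderOf_dvd_of_mem_zpowers (zpow_mem (mem_zpowers y) k))
  comm := fun _ ht => h.zpow_comm k ht
  charp := fun l hl => by
    rw [← zpow_mul] at hl ⊢
    exact h.charp _ hl
  off := h.off

theorem a_cj_left {X : Subgroup G} (hX : X ≤ A) : a ⋆ X = X :=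
  mem_normalizer_iff_cj.1 (mem_normalizer_iff.2 fun x => ⟨fun hx => by
    rw [(h.a_commute (hX hx)).eq, mul_inv_cancel_right]; exact hx, fun hx => by
    have h1 : Commute a (a * x * a⁻¹) := h.a_commute (hX hx)
    have e : a * x * a⁻¹ = x := by
      have := h1.eq
      rw [show a * x * a⁻¹ * a = a * x by group] at this
      exact mul_left_cancel this
    rwa [e] at hx⟩)

theorem a_cj_conj (k : ℤ) {X : Subgroup G} (hX : X ≤ A) : a ⋆ (y ^ k ⋆ X) = y ^ (-k) ⋆ X := by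
  rw [cj_cj, show a * y ^ k = y ^ (-k) * a by rw [← h.zpow_inv]; group, ← cj_cj, h.a_cj_left hX]

/-- `W` is not moved out of `Q`. -/
theorem eq_one_of_self [Finite G] (hWA' : A ≤ W) : y = 1 := by
  have hAW : A = W := le_antisymm hWA' h.hWA
  subst hAW
  by_contra hy1
  set V1 := y ⋆ A1 with hV1
  have hy : y ^ (1 : ℤ) = y := zpow_one y
  have hV1S : V1 ≤ S := cj_le_iff.2 fun t ht => by
    have := h.conj_mem_sylow 1 ht; rwa [hy] at this
  have hA1el : Cfsg.IsElementaryAbelian 2 A1 := elab_mono h.hA h.hA1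
  have hV1el : Cfsg.IsElementaryAbelian 2 V1 := elab_map _ hA1el
  have hV1A : V1 ≤ y ⋆ A := cj_mono y h.hA1
  set b := cidx A V1 with hb
  have e1 : b = cidx (y ⋆ A) A1 := by
    rw [hb, ← cidx_cj y⁻¹, hV1, cj_inv_cj, ← cidx_cj a, h.a_cj_left h.hA1]
    have := h.a_cj_conj (-1) le_rfl
    rw [neg_neg, hy, zpow_neg, hy] at this
    rw [this]
  have h2b : cidx V1 A ≤ 2 * b := by
    rw [e1, mul_comm, ← h.idx]
    unfold cidx
    calc (centralizer (V1 : Set G)).relIndex A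
        ≤ (centralizer (V1 : Set G) ⊓ A1).relIndex A :=
          relIndex_le_of_le_left inf_le_left index_ne_zero_of_finite
      _ = (centralizer (V1 : Set G) ⊓ A1).relIndex A1 * A1.relIndex A :=
          (relIndex_mul_relIndex _ _ _ inf_le_right h.hA1).symm
      _ ≤ _ := Nat.mul_le_mul_right _ (by
          rw [inf_relIndex_right]
          exact relIndex_le_of_le_left (centralizer_le hV1A) index_ne_zero_of_finite)
  have hoff := h.off_elab hV1S hV1el
  rw [← hb] at hoff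
  have hb2 : b ≤ 2 := by
    have : b ^ 2 ≤ 2 * b := hoff.trans h2b
    nlinarith
  -- the common fixed points
  have hyfix : ∀ x ∈ A, Commute (y * a * y⁻¹) x → Commute y x := fun x hx hc => by
    have := h.commute_of_fixed 1 (h.a_commute hx) (by rwa [hy])
    rwa [hy] at this
  set I := A1 ⊓ centralizer ((y ⋆ A : Subgroup G) : Set G) with hI
  have hIV : ∀ x ∈ I, x ∈ V1 := fun x hx => by
    have hc : Commute (y * a * y⁻¹) x := mem_centralizer_iff.1 hx.2 _ (conj_mem_cj h.haA)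
    have hyx := hyfix x (h.hA1 hx.1) hc
    have := conj_mem_cj (g := y) hx.1
    rwa [hyx.eq, mul_inv_cancel_right] at this
  have hnorm : a ⋆ V1 = V1 := by
    refine CfsgLib.Solvable.eq_of_le_of_card_le (cj_le_iff.2 fun v hv => ?_) (card_cj a V1).ge
    set c := a * v * a⁻¹ * v⁻¹ with hc
    suffices hcI : c ∈ V1 by
      have := mul_mem hcI hv
      rwa [hc, inv_mul_cancel_right] at this
    by_cases hvC : v ∈ centralizer (A : Set G)
    · have : c = 1 := by
        rw [hc, mem_centralizer_iff.1 hvC a h.haA, mul_inv_cancel_right, mul_inv_cancel]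
      rw [this]; exact one_mem _
    have hbeq : b = 2 := by
      have hb1 : b ≠ 1 := fun e => hvC (cidx_eq_one_iff.1 e hv)
      have := cidx_pos A V1
      omega
    have hcW : c ∈ A := by
      rw [hc, show a * v * a⁻¹ * v⁻¹ = a * (v * a⁻¹ * v⁻¹) by group]
      exact mul_mem h.haA ((mem_normalizer_iff.1 (h.hSW (hV1S hv)) _).1 (inv_mem h.haA))
    have hcv : Commute v c := by
      have hv2 : v⁻¹ = v := inv_eq_of_mul_eq_one_right (by rw [← sq]; exact hV1el.2 v hv)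
      have hc2 : c⁻¹ = c := inv_eq_of_mul_eq_one_right (by rw [← sq]; exact h.hA.2 c hcW)
      refine mul_inv_eq_iff_eq_mul.1 ?_
      calc v * c * v⁻¹ = v * a * v * a⁻¹ * (v⁻¹ * v⁻¹) := by rw [hc]; group
        _ = v⁻¹⁻¹ * a⁻¹⁻¹ * v⁻¹ * a⁻¹ := by
          rw [show v⁻¹ * v⁻¹ = 1 by rw [hv2, ← sq]; exact hV1el.2 v hv, mul_one, inv_inv, inv_inv, hv2]
        _ = c⁻¹ := by rw [hc]; group
        _ = c := hc2
    have hcC : c ∈ centralizer (V1 : Set G) := by
      refine mem_centralizer_iff.2 fun v' hv' => ?_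
      rcases relIndex_two_cases (show (centralizer (A : Set G)).relIndex V1 = 2 from hb.symm.trans hbeq) hv hvC hv'
        with h' | h'
      · exact (mem_centralizer_iff.1 h' c hcW).symm
      · have h1 : Commute (v * v') c := (mem_centralizer_iff.1 h' c hcW).symm
        have : Commute (v⁻¹ * (v * v')) c := hcv.inv_left.mul_left h1
        rwa [inv_mul_cancel_left] at this
    have hIle : I ≤ centralizer (V1 : Set G) ⊓ A :=
      le_inf (inf_le_right.trans (centralizer_le hV1A)) (inf_le_left.trans h.hA1)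
    have hIeq : I = centralizer (V1 : Set G) ⊓ A := by
      refine CfsgLib.Solvable.eq_of_le_of_card_le hIle ?_
      have c1 := card_eq_relIndex_mul (centralizer (V1 : Set G)) A
      have c2 := card_eq_relIndex_mul A1 A
      have c3 := card_eq_relIndex_mul (centralizer ((y ⋆ A : Subgroup G) : Set G)) A1
      rw [inf_comm (centralizer ((y ⋆ A : Subgroup G) : Set G)) A1, ← hI,
        show (centralizer ((y ⋆ A : Subgroup G) : Set G)).relIndex A1 = 2 from e1.symm.trans hbeq] at c3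
      rw [h.idx, inf_eq_left.2 h.hA1, c3] at c2
      have h4 : 4 ≤ (centralizer (V1 : Set G)).relIndex A := by
        rw [hbeq] at hoff; exact hoff
      rw [c1] at c2
      nlinarith
    exact hIV c (hIeq ▸ ⟨hcC, hcW⟩)
  have hy2N : y ^ 2 ∈ normalizer (A1 : Set G) := by
    have h1 := h.a_cj_conj 1 h.hA1
    rw [hy, ← hV1, hnorm, zpow_neg, hy, hV1] at h1
    rw [mem_normalizer_iff_cj, sq, ← cj_cj, h1, cj_cj_inv]
  have hyN : y ∈ normalizer (A1 : Set G) := by
    obtain ⟨j, hj⟩ := h.odd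
    have e : y = (y ^ 2) ^ (j + 1) := by
      rw [← pow_mul, show 2 * (j + 1) = orderOf y + 1 by omega, pow_succ, pow_orderOf_eq_one, one_mul]
    rw [e]; exact pow_mem hy2N _
  have hyA1 : ∀ x ∈ A1, Commute y x := fun x hx => by
    refine hyfix x (h.hA1 hx) (elab_commute (elab_map (MulAut.conj y).toMonoidHom h.hA)
      (conj_mem_cj h.haA) (hV1A ?_))
    rwa [hV1, mem_normalizer_iff_cj.1 hyN]
  have hQ2 : IsPGroup 2 Q := h.hS.to_le h.hQS
  have hstep : ∀ q ∈ Q, a * q * a⁻¹ * q⁻¹ ∈ A1 := by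
    intro q hq
    have hcA : a * q * a⁻¹ * q⁻¹ ∈ A := by
      rw [show a * q * a⁻¹ * q⁻¹ = a * (q * a⁻¹ * q⁻¹) by group]
      exact mul_mem h.haA ((mem_normalizer_iff.1 (h.hSW (h.hQS hq)) _).1 (inv_mem h.haA))
    have hcQ : a * q * a⁻¹ * q⁻¹ ∈ Q :=
      mul_mem ((mem_normalizer_iff.1 (h.hSQ (h.hAS h.haA)) q).1 hq) (inv_mem hq)
    rcases relIndex_two_cases h.idx h.haA h.haA1 hcA with h' | h'
    · exact h'
    exfalso
    set c := a * q * a⁻¹ * q⁻¹
    have hyc : y * c * y⁻¹ * c⁻¹ ∈ Q :=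
      mul_mem ((mem_normalizer_iff.1 h.hyQ c).1 hcQ) (inv_mem hcQ)
    have e : y * c * y⁻¹ = y * a⁻¹ * y⁻¹ * (a * c) := by
      calc y * c * y⁻¹ = y * a⁻¹ * y⁻¹ * (y * (a * c) * y⁻¹) := by group
        _ = _ := by rw [(hyA1 _ h').eq, mul_inv_cancel_right]
    rw [e, show y * a⁻¹ * y⁻¹ * (a * c) * c⁻¹ = y * a⁻¹ * y⁻¹ * a by group,
      h.a_inv, show y * a * y⁻¹ * a = y * (a * y⁻¹ * a⁻¹) by rw [h.a_inv]; group] at hyc
    have e2 : a * y⁻¹ * a⁻¹ = y := by
      calc a * y⁻¹ * a⁻¹ = (a * y * a⁻¹)⁻¹ := by group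
        _ = y := by rw [h.inv, inv_inv]
    rw [e2, ← sq] at hyc
    obtain ⟨k, hk⟩ := hQ2 ⟨_, hyc⟩
    have hk' : y ^ (2 * 2 ^ k) = 1 := by rw [pow_mul]; exact congrArg Subtype.val hk
    refine hy1 (orderOf_eq_one_iff.1 (Nat.eq_one_of_dvd_coprimes ?_ dvd_rfl
      (orderOf_dvd_of_pow_eq_one hk')))
    exact (Nat.coprime_two_right.2 h.odd).mul_right ((Nat.coprime_two_right.2 h.odd).pow_right k)
  refine hy1 ?_
  have hu : y ^ 2 = 1 := by
    have := h.charp 2 fun q hq => ?_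
    · simpa [zpow_ofNat] using this
    rw [zpow_ofNat]
    set c := a * q * a⁻¹ * q⁻¹ with hc
    set q' := y⁻¹ * q * y with hq'
    have hq'Q : q' ∈ Q := by
      have := (mem_normalizer_iff.1 (inv_mem h.hyQ) q).1 hq
      rwa [inv_inv] at this
    set c' := a * q' * a⁻¹ * q'⁻¹ with hc'
    have hcA1 := hstep q hq
    have hc'A1 := hstep q' hq'Q
    -- conjugation by `y²` translates by an element of `A1`
    have hyy : y ^ 2 = (y * a * y⁻¹) * a := by
      calc y ^ 2 = y * (a * y⁻¹ * a⁻¹) := by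
            rw [show a * y⁻¹ * a⁻¹ = (a * y * a⁻¹)⁻¹ by group, h.inv, inv_inv, sq]
        _ = _ := by rw [h.a_inv]; group
    have hd : y ^ 2 * q * (y ^ 2)⁻¹ = c * c' * q := by
      rw [hyy]
      have e1' : a * q * a⁻¹ = c * q := by rw [hc]; group
      have e2' : y⁻¹ * c * y = c := by
        rw [((hyA1 c hcA1).inv_left).eq, inv_mul_cancel_right]
      have e3' : a * q' * a⁻¹ = c' * q' := by rw [hc']; group
      have e4' : a * c * a⁻¹ = c := by
        rw [(h.a_commute (h.hA1 hcA1)).eq, mul_inv_cancel_right]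
      have e5' : y * (c * c') * y⁻¹ = c * c' := by
        rw [(hyA1 _ (mul_mem hcA1 hc'A1)).eq, mul_inv_cancel_right]
      clear_value c c' q'
      calc y * a * y⁻¹ * a * q * (y * a * y⁻¹ * a)⁻¹
          = y * a * (y⁻¹ * (a * q * a⁻¹) * y) * a⁻¹ * y⁻¹ := by group
        _ = y * a * ((y⁻¹ * c * y) * (y⁻¹ * q * y)) * a⁻¹ * y⁻¹ := by rw [e1']; group
        _ = y * ((a * c * a⁻¹) * (a * q' * a⁻¹)) * y⁻¹ := by rw [e2', ← hq']; group
        _ = (y * (c * c') * y⁻¹) * (y * q' * y⁻¹) := by rw [e3', e4']; group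
        _ = c * c' * q := by
          rw [e5', hq']; group
    have hdu : Commute (y ^ 2) (c * c') := (hyA1 _ (mul_mem hcA1 hc'A1)).pow_left 2
    have hn : ∀ n : ℕ, (y ^ 2) ^ n * q * ((y ^ 2) ^ n)⁻¹ = (c * c') ^ n * q := by
      intro n
      induction n with
      | zero => simp
      | succ n ih =>
        calc (y ^ 2) ^ (n + 1) * q * ((y ^ 2) ^ (n + 1))⁻¹
            = y ^ 2 * ((y ^ 2) ^ n * q * ((y ^ 2) ^ n)⁻¹) * (y ^ 2)⁻¹ := by rw [pow_succ']; group
          _ = (y ^ 2 * (c * c') ^ n * (y ^ 2)⁻¹) * (y ^ 2 * q * (y ^ 2)⁻¹) := by rw [ih]; group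
          _ = (c * c') ^ (n + 1) * q := by
            rw [(hdu.pow_right n).eq, mul_inv_cancel_right, hd, ← mul_assoc, ← pow_succ]
    have h1 := hn (orderOf y)
    rw [← pow_mul, mul_comm 2, pow_mul, pow_orderOf_eq_one, one_pow, one_mul, inv_one, mul_one,
      eq_comm, mul_eq_right] at h1
    have hd1 : c * c' = 1 := orderOf_eq_one_iff.1 (Nat.eq_one_of_dvd_coprimes
      (Nat.coprime_two_right.2 h.odd) (orderOf_dvd_of_pow_eq_one h1)
      (orderOf_dvd_of_pow_eq_one (hA1el.2 _ (mul_mem hcA1 hc'A1))))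
    rw [hd1, one_mul] at hd
    exact mul_inv_eq_iff_eq_mul.1 hd
  exact orderOf_eq_one_iff.1 (Nat.eq_one_of_dvd_coprimes (Nat.coprime_two_right.2 h.odd) dvd_rfl
    (orderOf_dvd_of_pow_eq_one hu))

end Rot

end CfsgLib.PushUpTwo
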