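import Cfsg.Agent.PushUpTwo.Rotation

/-!
An element inverted as in `Rotation` normalizes `W` when `W` lies in `Q`.
-/

set_option autoImplicit false
set_option linter.style.haveILetI false

namespace CfsgLib.PushUpTwo

open Subgroup CfsgLib.Functor CfsgLib.Thompson
open scoped CfsgLib.Functor

universe u

variable {G : Type u} [Group G] [Finite G]

theorem cidx_le_two_mul {A A1 : Subgroup G} (hA1 : A1 ≤ A) (hidx : A1.relIndex A = 2)
    (V : Subgroup G) : cidx V A ≤ 2 * cidx V A1 := by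
  rw [mul_comm, ← hidx]
  unfold cidx
  calc (centralizer (V : Set G)).relIndex A
      ≤ (centralizer (V : Set G) ⊓ A1).relIndex A :=
        relIndex_le_of_le_left inf_le_left index_ne_zero_of_finite
    _ = (centralizer (V : Set G) ⊓ A1).relIndex A1 * A1.relIndex A :=
        (relIndex_mul_relIndex _ _ _ inf_le_right hA1).symm
    _ = _ := by rw [inf_relIndex_right]

namespace Rot

variable {S Q W A A1 : Subgroup G} {a y : G} (h : Rot S Q W A A1 a y) (hWQ : W ≤ Q)
  (hmax : A ∈ maxIn 2 S)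
include h

theorem commute_y {x : G} (h1 : Commute a x) (h2 : Commute (y * a * y⁻¹) x) : Commute y x := by
  have := h.commute_of_fixed 1 h1 (by rwa [zpow_one])
  rwa [zpow_one] at this

theorem commute_conj {x : G} (hx : x ∈ y ⋆ W) : Commute (y * a * y⁻¹) x := by
  obtain ⟨w, hw, rfl⟩ := hx
  exact (h.a_commute (h.hWA hw)).map (MulAut.conj y).toMonoidHom

theorem commute_of_mem_inf {x : G} (hxL : x ∈ y ⋆ W) (hxA : x ∈ A) : Commute y x :=
  h.commute_y (h.a_commute hxA) (h.commute_conj hxL)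

theorem inf_le_W : (y ⋆ W) ⊓ A ≤ W := by
  rintro x ⟨hxL, hxA⟩
  have hc := h.commute_of_mem_inf hxL hxA
  have hm := mem_cj.1 hxL
  rwa [hc.inv_left.eq, inv_mul_cancel_right] at hm

theorem mem_cj_iff_commute {x : G} (hx : x ∈ W) : x ∈ y ⋆ W ↔ Commute y x := by
  refine ⟨fun hL => h.commute_of_mem_inf hL (h.hWA hx), fun hc => ?_⟩
  rw [mem_cj, hc.inv_left.eq, inv_mul_cancel_right]
  exact hx

theorem relIndex_comm : (y ⋆ W).relIndex W = W.relIndex (y ⋆ W) := by
  have h1 := card_eq_relIndex_mul (y ⋆ W) W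
  have h2 := card_eq_relIndex_mul W (y ⋆ W)
  rw [card_cj, inf_comm W, h1] at h2
  exact Nat.eq_of_mul_eq_mul_right Nat.card_pos h2

theorem conjA1_le : y⁻¹ ⋆ A1 ≤ S := cj_le_iff.2 fun t ht => by
  have := h.conj_mem_sylow (-1) ht
  rwa [zpow_neg, zpow_one] at this

theorem sq_cidx_le : cidx (y ⋆ W) A1 ^ 2 ≤ W.relIndex (y ⋆ W) := by
  have e : cidx W (y⁻¹ ⋆ A1) = cidx (y ⋆ W) A1 := by
    rw [← cidx_cj y, cj_cj_inv]
  rw [← e, ← h.relIndex_comm]
  refine (h.off_elab h.conjA1_le (elab_map _ (elab_mono h.hA h.hA1))).trans ?_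
  unfold cidx
  rw [← inf_relIndex_right (y ⋆ W)]
  refine relIndex_le_of_le_left ?_ index_ne_zero_of_finite
  rintro x ⟨hxL, hxW⟩
  refine mem_centralizer_iff.2 ?_
  rintro _ ⟨t, ht, rfl⟩
  have h1 : Commute t x := elab_commute h.hA (h.hA1 ht) (h.hWA hxW)
  have h2 : Commute y x := h.commute_of_mem_inf hxL (h.hWA hxW)
  show Commute (y⁻¹ * t * y⁻¹⁻¹) x
  exact (h2.inv_left.mul_left h1).mul_left h2.inv_left.inv_left

include hWQ

theorem L_le : y ⋆ W ≤ Q :=
  cj_le_iff.2 fun _ hw => (mem_normalizer_iff.1 h.hyQ _).1 (hWQ hw)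

theorem L_le_centralizer : y ⋆ W ≤ centralizer (W : Set G) := by
  rw [← cidx_eq_one_iff]
  have h1 : cidx W (y ⋆ W) ^ 2 ≤ cidx (y ⋆ W) W :=
    h.off_elab ((h.L_le hWQ).trans h.hQS) (elab_map _ h.hW)
  have hle : y⁻¹ ⋆ W ≤ S := cj_le_iff.2 fun w hw =>
    h.hQS ((mem_normalizer_iff.1 (inv_mem h.hyQ) _).1 (hWQ hw))
  have h2 := h.off_elab hle (elab_map (MulAut.conj y⁻¹).toMonoidHom h.hW)
  rw [show cidx W (y⁻¹ ⋆ W) = cidx (y ⋆ W) W by rw [← cidx_cj y, cj_cj_inv],
    show cidx (y⁻¹ ⋆ W) W = cidx W (y ⋆ W) by rw [← cidx_cj y, cj_cj_inv]] at h2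
  have hb := cidx_pos W (y ⋆ W)
  have hb' := cidx_pos (y ⋆ W) W
  generalize cidx W (y ⋆ W) = b at *
  generalize cidx (y ⋆ W) W = b' at *
  have h3 : b' ≤ b' ^ 2 := Nat.le_self_pow two_ne_zero b'
  nlinarith

include hmax

theorem relIndex_le : W.relIndex (y ⋆ W) ≤ 2 * cidx (y ⋆ W) A1 := by
  refine le_trans ?_ (cidx_le_two_mul h.hA1 h.idx (y ⋆ W))
  refine le_trans ?_ (relIndex_le_cidx hmax (elab_map _ h.hW) ((h.L_le hWQ).trans h.hQS))
  rw [← inf_relIndex_right A]
  exact relIndex_le_of_le_left (inf_comm A (y ⋆ W) ▸ h.inf_le_W) index_ne_zero_of_finite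

theorem mem_normalizer_of_one (h3 : ¬ 3 ∣ orderOf y) (hb : cidx (y ⋆ W) A1 = 1) :
    y ∈ normalizer (W : Set G) := by
  have hr : W.relIndex (y ⋆ W) ≤ 2 := by
    have := h.relIndex_le hWQ hmax; rw [hb] at this; exact this
  set L : ℤ → Subgroup G := fun k => y ^ k ⋆ W with hL
  have hI : ∀ k, W ⊓ (y ⋆ W) ≤ L k := fun k x hx => by
    refine ((h.pow k).mem_cj_iff_commute hx.1).2 ?_
    exact ((h.mem_cj_iff_commute hx.1).1 hx.2).zpow_left k
  have hA1L : ∀ k, A1 ≤ centralizer (L k : Set G) := fun k => by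
    rw [← cidx_eq_one_iff]
    have h1 := (h.pow k).sq_cidx_le
    have h2 : W.relIndex (L k) ≤ 2 := by
      refine le_trans ?_ hr
      have c1 := card_eq_relIndex_mul W (y ⋆ W)
      have c2 := card_eq_relIndex_mul W (L k)
      rw [card_cj] at c1 c2
      have hle : Nat.card ↥(W ⊓ (y ⋆ W)) ≤ Nat.card ↥(W ⊓ L k) :=
        Subgroup.card_le_of_le (le_inf inf_le_left (hI k))
      refine Nat.le_of_mul_le_mul_right ?_ (Nat.card_pos (α := ↥(W ⊓ L k)))
      rw [← c2, c1]
      exact Nat.mul_le_mul_left _ hle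
    have h4 : cidx (L k) A1 ^ 2 ≤ 2 := h1.trans h2
    have := cidx_pos (L k) A1
    nlinarith
  set E := ⨆ k, L k with hE
  have hEel : Cfsg.IsElementaryAbelian 2 E := by
    refine elab_iSup L (fun k => elab_map _ h.hW) fun i j => ?_
    have h1 := cj_mono (y ^ j) ((h.pow (i - j)).L_le_centralizer hWQ)
    rw [cj_cj, cj_centralizer, ← zpow_add, add_sub_cancel] at h1
    exact h1
  have hES : E ≤ S := iSup_le fun k => ((h.pow k).L_le hWQ).trans h.hQS
  have hyE : y ⋆ E = E := by
    rw [hE, Subgroup.map_iSup]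
    refine le_antisymm (iSup_le fun k => ?_) (iSup_le fun k => ?_)
    · refine le_iSup_of_le (1 + k) ?_
      simp only [hL]
      rw [cj_cj, zpow_add, zpow_one]
    · refine le_iSup_of_le (k - 1) ?_
      simp only [hL]
      rw [cj_cj, ← zpow_one_add, add_sub_cancel]
  have hEA : A.relIndex E ≤ 2 := by
    refine (relIndex_le_cidx hmax hEel hES).trans ((cidx_le_two_mul h.hA1 h.idx E).trans ?_)
    have : cidx E A1 = 1 :=
      cidx_eq_one_iff.2 (le_centralizer_iff.1 (iSup_le fun k => le_centralizer_iff.1 (hA1L k)))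
    rw [this]
  set U := (A ⊓ E) ⊓ (y ⋆ (A ⊓ E)) with hU
  have hall := centralizes_of_index hEel (U := U) (inf_le_left.trans inf_le_right) h.odd h3
    (mem_normalizer_iff_cj.2 hyE)
    (fun x hx => h.commute_y (h.a_commute hx.1.1) (by
      obtain ⟨z, hz, rfl⟩ := hx.2
      exact (h.a_commute hz.1).map (MulAut.conj y).toMonoidHom))
    (by
      refine relIndex_inf_le.trans ?_
      have e : (y ⋆ (A ⊓ E)).relIndex E = (A ⊓ E).relIndex E := by
        conv_lhs => arg 2; rw [← hyE]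
        exact cj_relIndex _ _ _
      rw [e, inf_relIndex_right]
      exact Nat.mul_le_mul hEA hEA)
  refine mem_normalizer_iff.2 fun x => ⟨fun hx => ?_, fun hx => ?_⟩
  · have hc := hall x (le_iSup L 0 (by simp only [hL, zpow_zero, cj_one]; exact hx))
    rwa [hc.eq, mul_inv_cancel_right]
  · have hc := hall _ (le_iSup L 0 (by simp only [hL, zpow_zero, cj_one]; exact hx))
    have e : y * x * y⁻¹ = x := by
      have := congrArg (fun z => y⁻¹ * z) hc.eq
      simpa [mul_assoc] using this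
    rwa [e] at hx

theorem values_of_not_mem (h3 : ¬ 3 ∣ orderOf y) (hy : y ∉ normalizer (W : Set G)) :
    cidx (y ⋆ W) A1 = 2 ∧ W.relIndex (y ⋆ W) = 4 := by
  have h1 := h.sq_cidx_le
  have h2 := h.relIndex_le hWQ hmax
  have hb : cidx (y ⋆ W) A1 ≠ 1 := fun e => hy (h.mem_normalizer_of_one hWQ hmax h3 e)
  have hb0 := cidx_pos (y ⋆ W) A1
  have hb2 : cidx (y ⋆ W) A1 = 2 := by
    by_contra hne
    have : 3 ≤ cidx (y ⋆ W) A1 := by omega
    nlinarith
  rw [hb2] at h1 h2
  exact ⟨hb2, by omega⟩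

theorem mem_normalizer_of_le (h3 : ¬ 3 ∣ orderOf y) : y ∈ normalizer (W : Set G) := by
  by_contra hy
  obtain ⟨hb, hr⟩ := h.values_of_not_mem hWQ hmax h3 hy
  set L : ℤ → Subgroup G := fun k => y ^ k ⋆ W with hL
  have hL1 : L 1 = y ⋆ W := by simp only [hL, zpow_one]
  set I := W ⊓ (y ⋆ W) with hI
  have hIy : ∀ x ∈ I, Commute y x := fun x hx => (h.mem_cj_iff_commute hx.1).1 hx.2
  have hIL : ∀ k, I ≤ L k := fun k x hx =>
    ((h.pow k).mem_cj_iff_commute hx.1).2 ((hIy x hx).zpow_left k)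
  have hcardW : Nat.card W = 4 * Nat.card I := by
    have := card_eq_relIndex_mul W (y ⋆ W)
    rwa [card_cj, hr] at this
  have hval : ∀ k : ℤ, y ^ k ∉ normalizer (W : Set G) →
      cidx (L k) A1 = 2 ∧ W.relIndex (L k) = 4 := fun k hk =>
    (h.pow k).values_of_not_mem hWQ hmax
      (fun hd => h3 (hd.trans (orderOf_dvd_of_mem_zpowers (zpow_mem (mem_zpowers y) k)))) hk
  have hIeq : ∀ k : ℤ, y ^ k ∉ normalizer (W : Set G) → W ⊓ L k = I := fun k hk => by
    refine (CfsgLib.Solvable.eq_of_le_of_card_le (le_inf inf_le_left (hIL k)) ?_).symm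
    have := card_eq_relIndex_mul W (L k)
    rw [card_cj, (hval k hk).2, hcardW] at this
    exact le_of_eq (Nat.eq_of_mul_eq_mul_left (by norm_num) this).symm
  have hW1 : ∀ w ∈ W, w⁻¹ = w := fun w hw =>
    inv_eq_of_mul_eq_one_right (by rw [← sq]; exact h.hW.2 w hw)
  -- the automizers
  have hWconj : ∀ g ∈ S, ∀ w ∈ W, g * w * g⁻¹ ∈ W := fun g hg w hw =>
    (mem_normalizer_iff.1 (h.hSW hg) w).1 hw
  let D : Subgroup G :=
    { carrier := {g | g ∈ S ∧ (∀ x ∈ I, Commute g x) ∧ ∀ w ∈ W, g * w * g⁻¹ * w⁻¹ ∈ I}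
      one_mem' := ⟨one_mem _, fun x _ => Commute.one_left x, fun w _ => by simp⟩
      mul_mem' := by
        rintro g g' ⟨hg, hgI, hgW⟩ ⟨hg', hgI', hgW'⟩
        refine ⟨mul_mem hg hg', fun x hx => (hgI x hx).mul_left (hgI' x hx), fun w hw => ?_⟩
        rw [show g * g' * w * (g * g')⁻¹ * w⁻¹ =
          (g * (g' * w * g'⁻¹ * w⁻¹) * g⁻¹) * (g * w * g⁻¹ * w⁻¹) by group,
          (hgI _ (hgW' w hw)).eq, mul_inv_cancel_right]
        exact mul_mem (hgW' w hw) (hgW w hw)
      inv_mem' := by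
        rintro g ⟨hg, hgI, hgW⟩
        refine ⟨inv_mem hg, fun x hx => (hgI x hx).inv_left, fun w hw => ?_⟩
        rw [show g⁻¹ * w * g⁻¹⁻¹ * w⁻¹ = g⁻¹ * (g * w * g⁻¹ * w⁻¹)⁻¹ * g by group,
          ((hgI _ (inv_mem (hgW w hw))).inv_left).eq, inv_mul_cancel_right]
        exact inv_mem (hgW w hw) }
  have hDoff : cidx W D ≤ 2 := by
    have h1 : cidx W D ^ 2 ≤ cidx D W := by
      refine h.off D (fun g hg => hg.1) (fun g hg g' hg' => ?_) (fun g hg => ?_)
      · refine mem_centralizer_iff.2 fun w hw => Commute.eq (Commute.symm ?_)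
        set c := g * w * g⁻¹ * w⁻¹ with hc
        set c' := g' * w * g'⁻¹ * w⁻¹ with hc'
        have hcI : c ∈ I := hg.2.2 w hw
        have hcI' : c' ∈ I := hg'.2.2 w hw
        have e : (g * g') * w * (g * g')⁻¹ = (g' * g) * w * (g' * g)⁻¹ := by
          calc (g * g') * w * (g * g')⁻¹ = (g * c' * g⁻¹) * c * w := by rw [hc, hc']; group
            _ = c' * c * w := by rw [(hg.2.1 c' hcI').eq, mul_inv_cancel_right]
            _ = c * c' * w := by rw [elab_commute h.hW hcI'.1 hcI.1]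
            _ = (g' * c * g'⁻¹) * c' * w := by rw [(hg'.2.1 c hcI).eq, mul_inv_cancel_right]
            _ = _ := by rw [hc, hc']; group
        refine mul_inv_eq_iff_eq_mul.1 ?_
        calc g * g' * g⁻¹ * g'⁻¹ * w * (g * g' * g⁻¹ * g'⁻¹)⁻¹
            = (g * g') * ((g' * g)⁻¹ * w * (g' * g)) * (g * g')⁻¹ := by group
          _ = (g * g') * ((g' * g)⁻¹ * w * (g' * g)) * (g * g')⁻¹ := rfl
          _ = (g' * g) * ((g' * g)⁻¹ * w * (g' * g)) * (g' * g)⁻¹ := by
            have hw' : (g' * g)⁻¹ * w * (g' * g) ∈ W := by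
              have := hWconj _ (inv_mem (mul_mem hg'.1 hg.1)) w hw
              rwa [inv_inv] at this
            set v := (g' * g)⁻¹ * w * (g' * g)
            have hcI2 : g * v * g⁻¹ * v⁻¹ ∈ I := hg.2.2 v hw'
            have hcI2' : g' * v * g'⁻¹ * v⁻¹ ∈ I := hg'.2.2 v hw'
            calc (g * g') * v * (g * g')⁻¹
                = (g * (g' * v * g'⁻¹ * v⁻¹) * g⁻¹) * (g * v * g⁻¹ * v⁻¹) * v := by group
              _ = (g' * v * g'⁻¹ * v⁻¹) * (g * v * g⁻¹ * v⁻¹) * v := by
                rw [(hg.2.1 _ hcI2').eq, mul_inv_cancel_right]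
              _ = (g * v * g⁻¹ * v⁻¹) * (g' * v * g'⁻¹ * v⁻¹) * v := by
                rw [elab_commute h.hW hcI2'.1 hcI2.1]
              _ = (g' * (g * v * g⁻¹ * v⁻¹) * g'⁻¹) * (g' * v * g'⁻¹ * v⁻¹) * v := by
                rw [(hg'.2.1 _ hcI2).eq, mul_inv_cancel_right]
              _ = _ := by group
          _ = w := by group
      · refine mem_centralizer_iff.2 fun w hw => Commute.eq (Commute.symm ?_)
        refine mul_inv_eq_iff_eq_mul.1 ?_
        set c := g * w * g⁻¹ * w⁻¹ with hc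
        have hcI : c ∈ I := hg.2.2 w hw
        calc g ^ 2 * w * (g ^ 2)⁻¹ = (g * c * g⁻¹) * c * w := by rw [hc, sq]; group
          _ = c ^ 2 * w := by rw [(hg.2.1 c hcI).eq, mul_inv_cancel_right, sq]
          _ = w := by rw [h.hW.2 c hcI.1, one_mul]
    have h2 : cidx D W ≤ 4 := by
      rw [← hr, ← h.relIndex_comm, ← inf_relIndex_right (y ⋆ W)]
      refine relIndex_le_of_le_left (fun x hx => mem_centralizer_iff.2 fun g hg => ?_)
        index_ne_zero_of_finite
      exact hg.2.1 x ⟨hx.2, hx.1⟩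
    nlinarith
  -- conjugates of the hyperplane act inside `D`
  have hBD : ∀ k : ℤ, ∀ t ∈ A1, y ^ (-k) * t * (y ^ (-k))⁻¹ ∈ D := by
    intro k t ht
    set g := y ^ (-k) * t * (y ^ (-k))⁻¹ with hg
    have hgS : g ∈ S := h.conj_mem_sylow (-k) ht
    have hgI : ∀ x ∈ I, Commute g x := fun x hx => by
      have h1 : Commute t x := elab_commute h.hA (h.hA1 ht) (h.hWA hx.1)
      have h2 : Commute (y ^ (-k)) x := (hIy x hx).zpow_left _
      exact (h2.mul_left h1).mul_left h2.inv_left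
    refine ⟨hgS, hgI, fun w hw => ?_⟩
    set c := g * w * g⁻¹ * w⁻¹ with hc
    have hcW : c ∈ W := mul_mem (hWconj g hgS w hw) (inv_mem hw)
    by_cases hgC : g ∈ centralizer (W : Set G)
    · have : c = 1 := by
        rw [hc, ← mem_centralizer_iff.1 hgC w hw, mul_inv_cancel_right, mul_inv_cancel]
      rw [this]; exact one_mem _
    set B := y ^ (-k) ⋆ A1 with hB
    have hgB : g ∈ B := conj_mem_cj ht
    have hBS : B ≤ S := cj_le_iff.2 fun t ht => h.conj_mem_sylow (-k) ht
    have hBel : Cfsg.IsElementaryAbelian 2 B := elab_map _ (elab_mono h.hA h.hA1)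
    have hkN : y ^ k ∉ normalizer (W : Set G) := fun hk => by
      refine hgC (mem_centralizer_iff.2 fun v hv => ?_)
      have hv' : y ^ k * v * (y ^ k)⁻¹ ∈ W := (mem_normalizer_iff.1 hk v).1 hv
      have h1 : Commute t (y ^ k * v * (y ^ k)⁻¹) := elab_commute h.hA (h.hA1 ht) (h.hWA hv')
      have h2 := h1.map (MulAut.conj (y ^ (-k))).toMonoidHom
      have e2 : y ^ (-k) * (y ^ k * v * (y ^ k)⁻¹) * (y ^ (-k))⁻¹ = v := by group
      have h5 : Commute g v := by
        have h6 : Commute (y ^ (-k) * t * (y ^ (-k))⁻¹)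
          (y ^ (-k) * (y ^ k * v * (y ^ k)⁻¹) * (y ^ (-k))⁻¹) := h2
        rwa [e2] at h6
      exact h5.eq.symm
    have hbk : cidx W B = 2 := by
      rw [← cidx_cj (y ^ k), hB, cj_cj, ← zpow_add, add_neg_cancel, zpow_zero, cj_one]
      exact (hval k hkN).1
    have hcg : Commute g c := by
      have hg2 : g⁻¹ = g := inv_eq_of_mul_eq_one_right (by rw [← sq]; exact hBel.2 g hgB)
      refine mul_inv_eq_iff_eq_mul.1 ?_
      calc g * c * g⁻¹ = (g * g) * w * g⁻¹ * w⁻¹ * g⁻¹ := by rw [hc]; group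
        _ = w * g * w⁻¹ * g⁻¹ := by
          rw [← sq, hBel.2 g hgB, one_mul, hg2]
        _ = c⁻¹ := by rw [hc]; group
        _ = c := hW1 c hcW
    have hcC : c ∈ centralizer (B : Set G) := by
      refine mem_centralizer_iff.2 fun g' hg' => ?_
      rcases relIndex_two_cases (show (centralizer (W : Set G)).relIndex B = 2 from hbk) hgB hgC hg'
        with h' | h'
      · exact (mem_centralizer_iff.1 h' c hcW).symm
      · have h1 : Commute (g * g') c := (mem_centralizer_iff.1 h' c hcW).symm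
        have : Commute (g⁻¹ * (g * g')) c := hcg.inv_left.mul_left h1
        rwa [inv_mul_cancel_left] at this
    have hXI : centralizer (B : Set G) ⊓ W = I := by
      refine (CfsgLib.Solvable.eq_of_le_of_card_le
        (show I ≤ centralizer (B : Set G) ⊓ W from fun x hx => ⟨?_, hx.1⟩) ?_).symm
      · refine mem_centralizer_iff.2 ?_
        rintro _ ⟨s, hs, rfl⟩
        have h1 : Commute s x := elab_commute h.hA (h.hA1 hs) (h.hWA hx.1)
        have h2 : Commute (y ^ (-k)) x := (hIy x hx).zpow_left _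
        exact ((h2.mul_left h1).mul_left h2.inv_left).eq
      · have c1 := card_eq_relIndex_mul (centralizer (B : Set G)) W
        have c2 := h.off_elab hBS hBel
        rw [hbk] at c2
        have c3 : 4 ≤ (centralizer (B : Set G)).relIndex W := c2
        rw [hcardW] at c1
        nlinarith
    exact hXI ▸ ⟨hcC, hcW⟩
  -- all act in the same way
  obtain ⟨t1, ht1, ht1C⟩ : ∃ t ∈ A1, t ∉ centralizer ((y ⋆ W : Subgroup G) : Set G) := by
    refine SetLike.not_le_iff_exists.1 fun hle => ?_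
    rw [← cidx_eq_one_iff, hb] at hle
    omega
  set g0 := y ^ (-(1 : ℤ)) * t1 * (y ^ (-(1 : ℤ)))⁻¹ with hg0
  have hg0D : g0 ∈ D := hBD 1 t1 ht1
  have hg0C : g0 ∉ centralizer (W : Set G) := fun hc => ht1C (by
    have := conj_mem_cj (g := y) hc
    rw [cj_centralizer] at this
    simpa [hg0, zpow_neg, mul_assoc] using this)
  have hDidx : (centralizer (W : Set G)).relIndex D = 2 := by
    have h1 : cidx W D ≠ 1 := fun e => hg0C (cidx_eq_one_iff.1 e hg0D)
    have h2 := cidx_pos W D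
    show cidx W D = 2
    omega
  set f : G → G := fun w => g0 * w * g0⁻¹ * w⁻¹ with hf
  have hfI : ∀ w ∈ W, f w ∈ I := fun w hw => hg0D.2.2 w hw
  have hf1 : ∀ w ∈ W, f w = 1 → w ∈ I := by
    intro w hw hfw
    have hcomm : Commute g0 w := mul_inv_eq_iff_eq_mul.1 (mul_inv_eq_one.1 hfw)
    set B := y⁻¹ ⋆ A1 with hB
    have hBb : cidx W B = 2 := by rw [← cidx_cj y, hB, cj_cj_inv]; exact hb
    have hg0B : g0 ∈ B := by
      rw [hg0, zpow_neg, zpow_one]; exact conj_mem_cj ht1
    have hwC : w ∈ centralizer (B : Set G) := by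
      refine mem_centralizer_iff.2 fun g' hg' => ?_
      rcases relIndex_two_cases (show (centralizer (W : Set G)).relIndex B = 2 from hBb) hg0B hg0C hg'
        with h' | h'
      · exact (mem_centralizer_iff.1 h' w hw).symm
      · have h1 : Commute (g0 * g') w := (mem_centralizer_iff.1 h' w hw).symm
        have : Commute (g0⁻¹ * (g0 * g')) w := hcomm.inv_left.mul_left h1
        rwa [inv_mul_cancel_left] at this
    have hIle : I ≤ centralizer (B : Set G) ⊓ W := fun x hx => ⟨by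
      refine mem_centralizer_iff.2 ?_
      rintro _ ⟨s, hs, rfl⟩
      have h1 : Commute s x := elab_commute h.hA (h.hA1 hs) (h.hWA hx.1)
      exact (((hIy x hx).inv_left.mul_left h1).mul_left (hIy x hx).inv_left.inv_left).eq, hx.1⟩
    have hIeq := CfsgLib.Solvable.eq_of_le_of_card_le hIle (by
      have c1 := card_eq_relIndex_mul (centralizer (B : Set G)) W
      have c2 := h.off_elab h.conjA1_le (elab_map (MulAut.conj y⁻¹).toMonoidHom (elab_mono h.hA h.hA1))
      rw [← hB, hBb] at c2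
      have c3 : 4 ≤ (centralizer (B : Set G)).relIndex W := c2
      rw [hcardW] at c1
      nlinarith)
    rw [hIeq]
    exact ⟨hwC, hw⟩
  -- an element of `A1` moving `L k` does it by `f`
  have hkey : ∀ (k : ℤ), ∀ t ∈ A1, t ∉ centralizer ((L k : Subgroup G) : Set G) → ∀ w ∈ W,
      t * (y ^ k * w * (y ^ k)⁻¹) * t⁻¹ * (y ^ k * w * (y ^ k)⁻¹)⁻¹ = f w := by
    intro k t ht htC w hw
    set g := y ^ (-k) * t * (y ^ (-k))⁻¹ with hg
    have hgD : g ∈ D := hBD k t ht
    have hgC : g ∉ centralizer (W : Set G) := fun hc => htC (by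
      have := conj_mem_cj (g := y ^ k) hc
      rw [cj_centralizer, show y ^ k * g * (y ^ k)⁻¹ = t by rw [hg, zpow_neg]; group] at this
      exact this)
    have h1 : g0⁻¹ * g ∈ centralizer (W : Set G) :=
      (mul_mem_iff_of_index_two hDidx (a := (⟨g0, hg0D⟩ : D)⁻¹) (b := ⟨g, hgD⟩)).2
        ⟨fun h' => absurd (inv_mem_iff.1 h') hg0C, fun h' => absurd h' hgC⟩
    have h2 : g * w * g⁻¹ = g0 * w * g0⁻¹ := by
      have h4 : w * (g0⁻¹ * g) = g0⁻¹ * g * w := mem_centralizer_iff.1 h1 w hw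
      calc g * w * g⁻¹ = g0 * (g0⁻¹ * g * w) * g⁻¹ := by group
        _ = _ := by rw [← h4]; group
    calc t * (y ^ k * w * (y ^ k)⁻¹) * t⁻¹ * (y ^ k * w * (y ^ k)⁻¹)⁻¹
        = y ^ k * (g * w * g⁻¹ * w⁻¹) * (y ^ k)⁻¹ := by rw [hg, zpow_neg]; group
      _ = y ^ k * f w * (y ^ k)⁻¹ := by rw [h2]
      _ = f w := by rw [((hIy _ (hfI w hw)).zpow_left k).eq, mul_inv_cancel_right]
  -- the kernels coincide
  have hker : ∀ k : ℤ, y ^ k ∉ normalizer (W : Set G) →
      ∀ t ∈ A1, t ∉ centralizer ((y ⋆ W : Subgroup G) : Set G) →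
        t ∉ centralizer ((L k : Subgroup G) : Set G) := by
    intro k hk t ht htC htk
    set C1 := centralizer ((y ⋆ W : Subgroup G) : Set G) ⊓ A1 with hC1
    set Ck := centralizer ((L k : Subgroup G) : Set G) ⊓ A1 with hCk
    have hnle : ¬ C1 ≤ Ck := by
      intro hle
      have e := CfsgLib.Solvable.eq_of_le_of_card_le hle (by
        have c1 := card_eq_relIndex_mul (centralizer ((y ⋆ W : Subgroup G) : Set G)) A1
        have c2 := card_eq_relIndex_mul (centralizer ((L k : Subgroup G) : Set G)) A1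
        rw [show (centralizer ((y ⋆ W : Subgroup G) : Set G)).relIndex A1 = 2 from hb, ← hC1] at c1
        rw [show (centralizer ((L k : Subgroup G) : Set G)).relIndex A1 = 2 from (hval k hk).1,
          ← hCk] at c2
        omega)
      exact htC ((e.symm ▸ (⟨htk, ht⟩ : t ∈ Ck) : t ∈ C1)).1
    obtain ⟨s, ⟨hs1, hsA⟩, hsk⟩ := SetLike.not_le_iff_exists.1 hnle
    have hsk' : s ∉ centralizer ((L k : Subgroup G) : Set G) := fun h' => hsk ⟨h', hsA⟩
    set U := (y ⋆ W) ⊔ L k with hU
    have hcom : L k ≤ centralizer ((y ⋆ W : Subgroup G) : Set G) := by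
      have h1 := cj_mono y ((h.pow (k - 1)).L_le_centralizer hWQ)
      rw [cj_cj, cj_centralizer, ← zpow_one_add, add_sub_cancel] at h1
      exact h1
    have hUel : Cfsg.IsElementaryAbelian 2 U :=
      elab_sup (elab_map _ h.hW) (elab_map _ h.hW) (le_centralizer_iff.1 hcom)
    have hUS : U ≤ S := (sup_le (h.L_le hWQ) ((h.pow k).L_le hWQ)).trans h.hQS
    have hU8 : A.relIndex U ≤ 8 := by
      refine (relIndex_le_cidx hmax hUel hUS).trans ((cidx_le_two_mul h.hA1 h.idx U).trans ?_)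
      have : cidx U A1 ≤ cidx (y ⋆ W) A1 * cidx (L k) A1 := by
        unfold cidx
        refine le_trans ?_ relIndex_inf_le
        refine relIndex_le_of_le_left ?_ index_ne_zero_of_finite
        exact le_centralizer_iff.1 (sup_le (le_centralizer_iff.1 inf_le_left)
          (le_centralizer_iff.1 inf_le_right))
      rw [hb, (hval k hk).1] at this
      omega
    have hUA : A ⊓ U ≤ I := by
      rintro x ⟨hxA, hxU⟩
      obtain ⟨l, hl, m, hm, rfl⟩ := (CfsgLib.Solvable.mem_sup_of_le_normalizer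
        ((h.L_le hWQ).trans fun q hq => mem_normalizer_fintype fun z hz => by
          obtain ⟨w, hw, rfl⟩ := hz
          refine ⟨(y ^ k)⁻¹ * q * y ^ k * w * ((y ^ k)⁻¹ * q * y ^ k)⁻¹, ?_, ?_⟩
          · refine hWconj _ (h.hQS ?_) w hw
            have := (mem_normalizer_iff.1 (zpow_mem h.hyQ (-k)) q).1 hq
            rwa [zpow_neg, inv_inv] at this
          · show y ^ k * _ * (y ^ k)⁻¹ = q * (y ^ k * w * (y ^ k)⁻¹) * q⁻¹
            group)).1 hxU
      have hA1x : ∀ u ∈ A1, Commute u (l * m) := fun u hu => elab_commute h.hA (h.hA1 hu) hxA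
      have hlI : l ∈ I := by
        have e : Commute t l := by
          have h1 : Commute t m := (mem_centralizer_iff.1 htk m hm).symm
          have := (hA1x t ht).mul_right h1.inv_right
          rwa [mul_inv_cancel_right] at this
        obtain ⟨w, hw, rfl⟩ := hl
        have h2 := hkey 1 t ht (by rw [hL1]; exact htC) w hw
        rw [zpow_one] at h2
        have h3' : Commute t (y * w * y⁻¹) := e
        rw [h3'.eq, mul_inv_cancel_right, mul_inv_cancel] at h2
        have hwI := hf1 w hw h2.symm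
        show y * w * y⁻¹ ∈ I
        rw [(hIy w hwI).eq, mul_inv_cancel_right]
        exact hwI
      have hmI : m ∈ I := by
        have e : Commute s m := by
          have h1 : Commute s l := (mem_centralizer_iff.1 hs1 l hl).symm
          have := h1.inv_right.mul_right (hA1x s hsA)
          rwa [inv_mul_cancel_left] at this
        obtain ⟨w, hw, rfl⟩ := hm
        have h2 := hkey k s hsA hsk' w hw
        have h3' : Commute s (y ^ k * w * (y ^ k)⁻¹) := e
        rw [h3'.eq, mul_inv_cancel_right, mul_inv_cancel] at h2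
        have hwI := hf1 w hw h2.symm
        show y ^ k * w * (y ^ k)⁻¹ ∈ I
        rw [((hIy w hwI).zpow_left k).eq, mul_inv_cancel_right]
        exact hwI
      exact mul_mem hlI hmI
    have hLL : (y ⋆ W) ⊓ L k ≤ I := by
      rintro x ⟨hxl, hxk⟩
      obtain ⟨w, hw, rfl⟩ := hxl
      have h2 := hkey 1 t ht (by rw [hL1]; exact htC) w hw
      rw [zpow_one] at h2
      have h3' : Commute t (y * w * y⁻¹) := (mem_centralizer_iff.1 htk _ hxk).symm
      rw [h3'.eq, mul_inv_cancel_right, mul_inv_cancel] at h2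
      have hwI := hf1 w hw h2.symm
      show y * w * y⁻¹ ∈ I
      rw [(hIy w hwI).eq, mul_inv_cancel_right]
      exact hwI
    have hm := CfsgLib.Solvable.card_sup_mul_card_inf (A := y ⋆ W) (K := L k) (by
      intro z hz
      refine mem_normalizer_fintype fun v hv => ?_
      have : Commute z v := mem_centralizer_iff.1 (hcom hv) z hz
      rw [this.eq, mul_inv_cancel_right]
      exact hv)
    rw [← hU, card_cj, card_cj, card_eq_relIndex_mul A U, hcardW] at hm
    have c1 := Subgroup.card_le_of_le hUA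
    have c2 := Subgroup.card_le_of_le hLL
    have c3 : 0 < Nat.card I := Nat.card_pos
    have c4 : A.relIndex U * Nat.card ↥(A ⊓ U) * Nat.card ↥((y ⋆ W) ⊓ L k) ≤
        8 * Nat.card I * Nat.card I := Nat.mul_le_mul (Nat.mul_le_mul hU8 c1) c2
    rw [hm] at c4
    nlinarith
  -- the whole orbit
  set E := ⨆ k, L k with hE
  have hEel : Cfsg.IsElementaryAbelian 2 E := by
    refine elab_iSup L (fun k => elab_map _ h.hW) fun i j => ?_
    have h1 := cj_mono (y ^ j) ((h.pow (i - j)).L_le_centralizer hWQ)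
    rw [cj_cj, cj_centralizer, ← zpow_add, add_sub_cancel] at h1
    exact h1
  have hES : E ≤ S := iSup_le fun k => ((h.pow k).L_le hWQ).trans h.hQS
  have hEA : A.relIndex E ≤ 4 := by
    refine (relIndex_le_cidx hmax hEel hES).trans ((cidx_le_two_mul h.hA1 h.idx E).trans ?_)
    have hle : centralizer ((y ⋆ W : Subgroup G) : Set G) ⊓ A1 ≤ centralizer (E : Set G) := by
      refine le_centralizer_iff.1 (iSup_le fun k => le_centralizer_iff.1 fun u hu => ?_)
      by_cases hk : y ^ k ∈ normalizer (W : Set G)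
      · show u ∈ centralizer ((y ^ k ⋆ W : Subgroup G) : Set G)
        rw [mem_normalizer_iff_cj.1 hk]
        exact mem_centralizer_iff.2 fun w hw => (elab_commute h.hA (h.hA1 hu.2) (h.hWA hw)).symm
      · by_contra hne
        -- `u * t1` would contradict `hker`
        have hut : u * t1 ∉ centralizer ((y ⋆ W : Subgroup G) : Set G) := fun h' => ht1C (by
          have := mul_mem (inv_mem (show u ∈ centralizer ((y ⋆ W : Subgroup G) : Set G) from hu.1)) h'
          rwa [inv_mul_cancel_left] at this)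
        have h1 := hker k hk (u * t1) (mul_mem hu.2 ht1) hut
        have h2 := hker k hk t1 ht1 ht1C
        exact h1 ((mul_mem_iff_of_index_two
          (show (centralizer ((L k : Subgroup G) : Set G)).relIndex A1 = 2 from (hval k hk).1)
          (a := (⟨u, hu.2⟩ : A1)) (b := ⟨t1, ht1⟩)).2
          ⟨fun h' => absurd h' hne, fun h' => absurd h' h2⟩)
    have : cidx E A1 ≤ 2 := by
      rw [← hb]
      unfold cidx
      refine le_trans ?_ (le_of_eq (inf_relIndex_right _ _))
      exact relIndex_le_of_le_left hle index_ne_zero_of_finite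
    omega
  set X := centralizer ({t1} : Set G) ⊓ E with hX
  have hXA : X ≤ A := by
    have hle : A ⊓ E ≤ X := fun x hx =>
      ⟨mem_centralizer_singleton_iff.2 (elab_commute h.hA hx.1 (h.hA1 ht1)), hx.2⟩
    have h4 : 4 ≤ (centralizer ({t1} : Set G)).relIndex E := by
      refine le_trans ?_ (relIndex_le_of_le_right (show y ⋆ W ≤ E from hL1 ▸ le_iSup L 1)
        index_ne_zero_of_finite)
      rw [← hr, ← inf_relIndex_right (centralizer ({t1} : Set G))]
      refine relIndex_le_of_le_left ?_ index_ne_zero_of_finite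
      rintro x ⟨hxc, ⟨w, hw, rfl⟩⟩
      have h2 := hkey 1 t1 ht1 (by rw [hL1]; exact ht1C) w hw
      rw [zpow_one] at h2
      have h3' : Commute t1 (y * w * y⁻¹) := (mem_centralizer_singleton_iff.1 hxc).symm
      rw [h3'.eq, mul_inv_cancel_right, mul_inv_cancel] at h2
      have hwI := hf1 w hw h2.symm
      show y * w * y⁻¹ ∈ W
      rw [(hIy w hwI).eq, mul_inv_cancel_right]
      exact hw
    have e := CfsgLib.Solvable.eq_of_le_of_card_le hle (by
      have c1 := card_eq_relIndex_mul A E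
      have c2 := card_eq_relIndex_mul (centralizer ({t1} : Set G)) E
      rw [← hX] at c2
      by_contra hlt
      push Not at hlt
      have c5 : A.relIndex E * Nat.card ↥(A ⊓ E) ≤ 4 * Nat.card ↥(A ⊓ E) :=
        Nat.mul_le_mul_right _ hEA
      have c6 : 4 * Nat.card ↥X ≤ (centralizer ({t1} : Set G)).relIndex E * Nat.card ↥X :=
        Nat.mul_le_mul_right _ h4
      omega)
    rw [← e]; exact inf_le_left
  have hnot : ∀ j : ℕ, j.Coprime (orderOf y) → y ^ (j : ℤ) ∉ normalizer (W : Set G) := by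
    intro j hj hmem
    obtain ⟨m, hm⟩ := exists_pow_eq_self_of_coprime hj
    rw [zpow_natCast] at hmem
    exact hy (hm ▸ pow_mem hmem m)
  have hc2 : (2 : ℕ).Coprime (orderOf y) := Nat.coprime_two_left.2 h.odd
  have hc3 : (3 : ℕ).Coprime (orderOf y) := (Nat.Prime.coprime_iff_not_dvd Nat.prime_three).2 h3
  have hc4 : (4 : ℕ).Coprime (orderOf y) := by
    rw [show (4 : ℕ) = 2 ^ 2 by norm_num]; exact Nat.Coprime.pow_left 2 hc2
  refine hy (mem_normalizer_fintype fun w hw => ?_)
  suffices hc : Commute y w by rw [hc.eq, mul_inv_cancel_right]; exact hw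
  -- two translates act alike
  have hmemX : ∀ i j : ℕ, y ^ (i : ℤ) ∉ normalizer (W : Set G) →
      y ^ (j : ℤ) ∉ normalizer (W : Set G) →
      (y ^ i * w * (y ^ i)⁻¹) * (y ^ j * w * (y ^ j)⁻¹) ∈ A := by
    intro i j hi hj
    refine hXA ⟨mem_centralizer_singleton_iff.2 (Commute.symm ?_).eq, ?_⟩
    · have e1 := hkey i t1 ht1 (hker i hi t1 ht1 ht1C) w hw
      have e2 := hkey j t1 ht1 (hker j hj t1 ht1 ht1C) w hw
      rw [zpow_natCast] at e1 e2
      refine mul_inv_eq_iff_eq_mul.1 ?_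
      set u := y ^ i * w * (y ^ i)⁻¹ with hu
      set v := y ^ j * w * (y ^ j)⁻¹ with hv
      have hu' : t1 * u * t1⁻¹ = f w * u := by rw [← e1]; group
      have hv' : t1 * v * t1⁻¹ = f w * v := by rw [← e2]; group
      have huE : u ∈ E := le_iSup L (i : ℤ) (by
        simp only [hL, zpow_natCast]; exact conj_mem_cj hw)
      have hfE : f w ∈ E := le_iSup L 0 (hIL 0 (hfI w hw))
      calc t1 * (u * v) * t1⁻¹ = (t1 * u * t1⁻¹) * (t1 * v * t1⁻¹) := by group
        _ = f w * (u * f w) * v := by rw [hu', hv']; group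
        _ = (f w * f w) * u * v := by rw [elab_commute hEel huE hfE]; group
        _ = u * v := by rw [← sq, h.hW.2 _ (hfI w hw).1, one_mul]
    · refine mul_mem (le_iSup L (i : ℤ) ?_) (le_iSup L (j : ℤ) ?_) <;>
        (simp only [hL, zpow_natCast]; exact conj_mem_cj hw)
  have h1' : y ^ ((1 : ℕ) : ℤ) ∉ normalizer (W : Set G) := by simpa using hy
  set u := (y ^ 2 * w * (y ^ 2)⁻¹) * (y ^ 4 * w * (y ^ 4)⁻¹) with hu
  have huA : u ∈ A := hmemX 2 4 (hnot 2 hc2) (hnot 4 hc4)
  have huA' : (y ^ 1 * w * (y ^ 1)⁻¹) * (y ^ 3 * w * (y ^ 3)⁻¹) ∈ A :=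
    hmemX 1 3 h1' (hnot 3 hc3)
  have hyu : Commute y u := by
    refine h.commute_y (h.a_commute huA) ?_
    have e : u = y * ((y ^ 1 * w * (y ^ 1)⁻¹) * (y ^ 3 * w * (y ^ 3)⁻¹)) * y⁻¹ := by rw [hu]; group
    rw [e]
    exact (h.a_commute huA').map (MulAut.conj y).toMonoidHom
  have hu0 : w * (y ^ 2 * w * (y ^ 2)⁻¹) = u := by
    calc w * (y ^ 2 * w * (y ^ 2)⁻¹) = (y ^ 2)⁻¹ * u * y ^ 2 := by rw [hu]; group
      _ = u := by rw [((hyu.pow_left 2).inv_left).eq, inv_mul_cancel_right]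
  have hwE : w ∈ E := le_iSup L 0 (by simp only [hL, zpow_zero, cj_one]; exact hw)
  have h2E : y ^ 2 * w * (y ^ 2)⁻¹ ∈ E := le_iSup L 2 (by
    simp only [hL]; rw [zpow_ofNat]; exact conj_mem_cj hw)
  have h4w : Commute (y ^ 4) w := by
    refine mul_inv_eq_iff_eq_mul.1 ?_
    rw [elab_commute hEel hwE h2E, hu, mul_right_inj] at hu0
    exact hu0.symm
  obtain ⟨m, hm⟩ := exists_pow_eq_self_of_coprime hc4
  exact hm ▸ h4w.pow_left m

end Rot

end CfsgLib.PushUpTwo
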